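import Cfsg.Agent.Lib.Bender.ConsReduce
import Cfsg.Agent.Lib.PrimeGraphExt
import Cfsg.Prelude.Def_Amalgam
import Cfsg.Agent.S0283
import Cfsg.Agent.S1162

/-! Bender–Suzuki, part C: groups with a strongly embedded subgroup (S2798). -/

set_option autoImplicit false
set_option linter.unusedSectionVars false
set_option linter.style.haveILetI false

namespace CfsgLib.Bender

universe u

variable {G : Type u} [Group G] [Finite G]

theorem dihedral_conj {t z : G} (ht : t * t = 1) (hz : z * z = 1) (k : ℕ) :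
    (t * z) ^ k * t = t * ((t * z) ^ k)⁻¹ := by
  have h : t * (t * z) * t⁻¹ = (t * z)⁻¹ := by
    rw [mul_inv_rev, ← mul_assoc, ht, one_mul, inv_eq_of_mul_eq_one_right ht,
      inv_eq_of_mul_eq_one_right hz]
  have h2 : ((t * z) ^ k)⁻¹ = t * (t * z) ^ k * t⁻¹ := by rw [← inv_pow, ← h, conj_pow]
  rw [h2, ← mul_assoc, ← mul_assoc, ht, one_mul, inv_eq_of_mul_eq_one_right ht]

theorem rankOne_case (heven : Even (Nat.card G)) (h4 : ¬ HasFour G) (t : G) (ht : orderOf t = 2) :
    Cfsg.pPrimeCore 2 G ⊔ Subgroup.centralizer ({t} : Set G) = ⊤ ∧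
      ∀ u ∈ Subgroup.centralizer ({t} : Set G), orderOf u = 2 → u = t := by
  have hsq : ∀ {u : G}, orderOf u = 2 → u ≠ 1 ∧ u * u = 1 := fun {u} hu =>
    ⟨fun e => by rw [e, orderOf_one] at hu; exact absurd hu (by norm_num), by
      have h := pow_orderOf_eq_one u
      rwa [hu, pow_two] at h⟩
  obtain ⟨ht1, ht2⟩ := hsq ht
  have huniq : ∀ u v : G, u ≠ 1 → v ≠ 1 → u * u = 1 → v * v = 1 → u * v = v * u → u = v :=
    fun u v hu hv hu2 hv2 hc => by_contra fun h => h4 ⟨u, v, hu, hv, h, hu2, hv2, hc⟩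
  refine ⟨?_, fun u hu hu' => ?_⟩
  · obtain ⟨z, hz, N, hN, hodd, hzN⟩ := Cfsg.Agent.S0225.result heven fun E hE => h4 (hasFour_of_klein hE)
    haveI := hN
    obtain ⟨hz1, hz2⟩ := hsq hz
    have hodd' : Odd (Nat.card N) := hodd
    have key : ∀ s : G, s ≠ 1 → s * s = 1 → ∃ c ∈ N, s = c * z * c⁻¹ := by
      intro s hs1 hs2
      obtain ⟨k, hk⟩ | hod := Nat.even_or_odd (orderOf (s * z))
      · exfalso
        have hpos : 0 < orderOf (s * z) := orderOf_pos _
        have hw1 : (s * z) ^ k ≠ 1 := fun e => by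
          have := Nat.le_of_dvd (by omega) (orderOf_dvd_of_pow_eq_one e)
          omega
        have hw2 : (s * z) ^ k * (s * z) ^ k = 1 := by rw [← pow_add, ← hk, pow_orderOf_eq_one]
        have hwi : ((s * z) ^ k)⁻¹ = (s * z) ^ k := inv_eq_of_mul_eq_one_right hw2
        have hws : (s * z) ^ k * s = s * (s * z) ^ k := by rw [dihedral_conj hs2 hz2, hwi]
        have hes : (s * z) ^ k = s := huniq _ _ hw1 hs1 hw2 hs2 hws
        have hwz : (s * z) ^ k * z = z * (s * z) ^ k := by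
          have h := (Commute.inv_right (show Commute ((s * z) ^ k) s from hws)).mul_right
            (Commute.pow_self (s * z) k)
          rw [inv_mul_cancel_left] at h
          exact h
        have hez : (s * z) ^ k = z := huniq _ _ hw1 hz1 hw2 hz2 hwz
        have : s = z := hes.symm.trans hez
        subst this
        rw [hs2, one_pow] at hw1
        exact hw1 rfl
      · obtain ⟨k, hk⟩ := hod
        have hpow : (s * z) ^ k * ((s * z) ^ k * (s * z)) = 1 := by
          rw [← pow_succ, ← pow_add, show k + (k + 1) = orderOf (s * z) by omega, pow_orderOf_eq_one]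
        have hc : (s * z) ^ k * s * ((s * z) ^ k)⁻¹ = z := by
          have hinv : ((s * z) ^ k * (s * z) ^ k)⁻¹ = s * z := by
            refine inv_eq_of_mul_eq_one_right ?_
            rw [mul_assoc, hpow]
          rw [dihedral_conj hs2 hz2, mul_assoc, ← mul_inv_rev, hinv, ← mul_assoc, hs2, one_mul]
        have hsN : s * z ∈ N := by
          rw [← QuotientGroup.eq_one_iff]
          have hzc : ∀ g : G, ((z : G) : G ⧸ N) * (g : G ⧸ N) = (g : G ⧸ N) * (z : G ⧸ N) := fun g => by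
            have h := (QuotientGroup.eq_one_iff _).2 (hzN g)
            simp only [QuotientGroup.mk_mul, QuotientGroup.mk_inv] at h
            rw [mul_inv_eq_one, mul_inv_eq_iff_eq_mul] at h
            exact h
          have hs' : (z : G ⧸ N) = (s : G ⧸ N) := by
            have h := congrArg (QuotientGroup.mk (s := N)) hc
            simp only [QuotientGroup.mk_mul, QuotientGroup.mk_inv] at h
            have hz' := hzc ((s * z) ^ k)
            rw [mul_inv_eq_iff_eq_mul, hz'] at h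
            exact (mul_left_cancel h).symm
          rw [QuotientGroup.mk_mul, hs', ← QuotientGroup.mk_mul, hs2, QuotientGroup.mk_one]
        refine ⟨((s * z) ^ k)⁻¹, N.inv_mem (N.pow_mem hsN k), ?_⟩
        generalize (s * z) ^ k = w at hc ⊢
        rw [← hc]
        group
    rw [eq_top_iff]
    intro x _
    obtain ⟨a, ha, hat⟩ := key t ht1 ht2
    obtain ⟨b, hb, hbt⟩ := key (x * t * x⁻¹) (fun e => ht1 (conj_eq_one_iff.1 e)) (by
      rw [show x * t * x⁻¹ * (x * t * x⁻¹) = x * (t * t) * x⁻¹ by group, ht2]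
      group)
    have hle : N ≤ Cfsg.pPrimeCore 2 G := le_pPrimeCore (coprime_two_of_odd hodd')
    have h1 : b * a⁻¹ ∈ N := N.mul_mem hb (N.inv_mem ha)
    have h2 : (b * a⁻¹)⁻¹ * x ∈ Subgroup.centralizer ({t} : Set G) := by
      rw [Subgroup.mem_centralizer_singleton_iff]
      have e1 : x * t * x⁻¹ = (b * a⁻¹) * t * (b * a⁻¹)⁻¹ := by rw [hbt, hat]; group
      calc (b * a⁻¹)⁻¹ * x * t = (b * a⁻¹)⁻¹ * (x * t * x⁻¹) * x := by group
        _ = t * ((b * a⁻¹)⁻¹ * x) := by rw [e1]; group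
    have := Subgroup.mul_mem_sup (hle h1) h2
    rwa [mul_inv_cancel_left] at this
  · obtain ⟨hu1, hu2⟩ := hsq hu'
    exact huniq u t hu1 ht1 hu2 ht2 (Subgroup.mem_centralizer_singleton_iff.1 hu)

theorem pElementClosure_eq {X : Type u} [Group X] [Finite X] {L : Subgroup X} [L.Normal]
    (hi : Odd L.index) [IsSimpleGroup L] (he : Even (Nat.card L)) :
    Cfsg.pElementClosure 2 (⊤ : Subgroup X) = L := by
  haveI : Fact (Nat.Prime 2) := ⟨Nat.prime_two⟩
  have hle : Cfsg.pElementClosure 2 (⊤ : Subgroup X) ≤ L := by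
    refine (Subgroup.closure_le _).2 ?_
    rintro x ⟨-, k, hk⟩
    refine (QuotientGroup.eq_one_iff x).1 (orderOf_eq_one_iff.1 ?_)
    have h1 : orderOf (x : X ⧸ L) ∣ 2 ^ k := hk ▸ orderOf_map_dvd (QuotientGroup.mk' L) x
    exact Nat.eq_one_of_dvd_coprimes (Nat.Coprime.pow_left k (Nat.coprime_two_left.2 hi)) h1
      (orderOf_dvd_natCard _)
  haveI : (Cfsg.pElementClosure 2 (⊤ : Subgroup X)).Normal := by
    refine ⟨fun n hn g => ?_⟩
    induction hn using Subgroup.closure_induction with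
    | mem x hx =>
      refine Subgroup.subset_closure ⟨Subgroup.mem_top _, hx.2.choose, ?_⟩
      rw [← hx.2.choose_spec]
      exact orderOf_injective (MulAut.conj g).toMonoidHom (MulAut.conj g).injective x
    | one => simp
    | mul x y _ _ hx hy => rw [← conj_mul]; exact Subgroup.mul_mem _ hx hy
    | inv x _ hx => rw [← conj_inv]; exact Subgroup.inv_mem _ hx
  haveI : ((Cfsg.pElementClosure 2 (⊤ : Subgroup X)).subgroupOf L).Normal :=
    Subgroup.Normal.subgroupOf inferInstance L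
  rcases (inferInstance : ((Cfsg.pElementClosure 2 (⊤ : Subgroup X)).subgroupOf L).Normal).eq_bot_or_eq_top
    with e | e
  · exfalso
    obtain ⟨z, hz⟩ := exists_prime_orderOf_dvd_card' (G := L) 2 he.two_dvd
    have hz' : z ∈ (Cfsg.pElementClosure 2 (⊤ : Subgroup X)).subgroupOf L :=
      Subgroup.subset_closure ⟨Subgroup.mem_top _, 1,
        (Subgroup.orderOf_coe z).trans (hz.trans (pow_one 2).symm)⟩
    rw [e, Subgroup.mem_bot] at hz'
    rw [hz', orderOf_one] at hz
    exact absurd hz (by norm_num)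
  · exact le_antisymm hle (Subgroup.subgroupOf_eq_top.1 e)

/-- S2798, conditional. -/
theorem general (hA : BenderHyp.{u}) (hB : SuzukiHyp.{u}) {X : Subgroup G}
    (hX : Cfsg.IsStronglyPEmbedded 2 X) :
    (∀ t : G, orderOf t = 2 → Cfsg.pPrimeCore 2 G ⊔ Subgroup.centralizer ({t} : Set G) = ⊤ ∧
        ∀ u ∈ Subgroup.centralizer ({t} : Set G), orderOf u = 2 → u = t) ∨
      (∃ (F : Type) (_ : Field F) (_ : Fintype F), CharP F 2 ∧ 4 ≤ Fintype.card F ∧
        Nonempty (↥(Cfsg.pElementClosure 2 (⊤ : Subgroup (G ⧸ Cfsg.pPrimeCore 2 G))) ≃*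
          Matrix.SpecialLinearGroup (Fin 2) F)) ∨
      (∃ (F : Type) (_ : Field F) (_ : Fintype F) (q : ℕ), Even q ∧ 4 ≤ q ∧ Fintype.card F = q ^ 2 ∧
        Nonempty (↥(Cfsg.pElementClosure 2 (⊤ : Subgroup (G ⧸ Cfsg.pPrimeCore 2 G))) ≃* Cfsg.PSU 3 F q)) ∨
      Cfsg.Lie.IsoSuzuki ↥(Cfsg.pElementClosure 2 (⊤ : Subgroup (G ⧸ Cfsg.pPrimeCore 2 G))) := by
  have hH := isStronglyEmbedded_of_two hX
  by_cases h4 : HasFour G
  swap
  · exact Or.inl fun t ht => rankOne_case (even_card hH) h4 t ht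
  have hK := normalCore_eq hA h4 hH
  obtain ⟨hH', hc'⟩ := stronglyEmbedded_quotient hH
  have h4' := hasFour_quotient _ (odd_normalCore hH) h4
  let φ : (G ⧸ X.normalCore) ≃* (G ⧸ Cfsg.pPrimeCore 2 G) := QuotientGroup.quotientMulEquivOfEq hK
  obtain ⟨Q, hQM, hQn, htr, hreg⟩ := hA _ _ hH' hc' h4'
  obtain ⟨t, -, hS⟩ := setup hH' hQM hQn htr hreg
  haveI := faithful hc'
  obtain ⟨L, hLn, hLi, hL⟩ := hB _ _ _ t Q hS h4'
  haveI := hLn
  have heL : Even (Nat.card L) := by
    have h := Subgroup.card_mul_index L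
    have he : Even (Nat.card (G ⧸ X.normalCore)) := even_card hH'
    rw [← h] at he
    exact (Nat.even_mul.1 he).resolve_right (Nat.not_even_iff_odd.2 hLi)
  have hiso : ∀ [IsSimpleGroup L],
      Nonempty (↥(Cfsg.pElementClosure 2 (⊤ : Subgroup (G ⧸ Cfsg.pPrimeCore 2 G))) ≃* L) := by
    intro _
    haveI : (L.map φ.toMonoidHom).Normal := Subgroup.Normal.map hLn _ φ.surjective
    haveI : IsSimpleGroup (L.map φ.toMonoidHom) := (φ.subgroupMap L).symm.isSimpleGroup
    rw [pElementClosure_eq (L := L.map φ.toMonoidHom) ?_ ?_]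
    · exact ⟨(φ.subgroupMap L).symm⟩
    · rwa [show (L.map φ.toMonoidHom).index = L.index from Subgroup.index_map_equiv L φ]
    · rwa [show Nat.card (L.map φ.toMonoidHom) = Nat.card L from
        Subgroup.card_map_of_injective φ.injective]
  rcases hL with ⟨F, i1, i2, ⟨n, hn, hc⟩, ⟨f⟩⟩ | hsz | ⟨F, i1, i2, n, hn, hc, ⟨f⟩⟩
  · haveI := charP_two_of_card hc (by omega)
    haveI : IsSimpleGroup (Matrix.ProjectiveSpecialLinearGroup (Fin 2) F) :=
      Matrix.ProjectiveSpecialLinearGroup.rank_two_simple (by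
        rw [Nat.card_eq_fintype_card, hc]; have := four_le_two_pow hn; omega)
    haveI := f.isSimpleGroup
    obtain ⟨g⟩ := hiso
    exact Or.inr (Or.inl ⟨F, i1, i2, inferInstance, hc ▸ four_le_two_pow hn,
      ⟨(g.trans f).trans PrimeGraphExt.pslEquiv⟩⟩)
  · obtain ⟨F, i1, i2, m, hm, hc, ⟨f⟩⟩ := hsz
    haveI := Cfsg.Agent.S1162.result hm hc
    haveI := f.isSimpleGroup
    obtain ⟨g⟩ := hiso
    exact Or.inr (Or.inr (Or.inr ⟨F, i1, i2, m, hm, hc, ⟨g.trans f⟩⟩))
  · have h4le := four_le_two_pow hn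
    haveI := Cfsg.Agent.S0283.result (F := F) hc 3 le_rfl (by omega)
    haveI := f.isSimpleGroup
    obtain ⟨g⟩ := hiso
    exact Or.inr (Or.inr (Or.inl ⟨F, i1, i2, 2 ^ n, Nat.even_pow.2 ⟨even_two, by omega⟩, h4le, hc,
      ⟨g.trans f⟩⟩))

end CfsgLib.Bender
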