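import Cfsg.Agent.Lib.Bender.B1.Main
import Cfsg.Agent.Lib.Bender.OneFix.KOne
import Cfsg.Agent.Lib.Bender.ConsGeneral
import Cfsg.Agent.Lib.SuzukiRankOne.Main
import Cfsg.Agent.Lib.TwoFusion.StrongEmb
import Cfsg.Agent.S0016
import Cfsg.Prelude.Def_CaseTheorems

/-!
Bender's theorem from the statement on one-fix actions: the two hypotheses of part C and the rows S1220, S1221
and S1223 on strongly embedded subgroups.
-/

set_option autoImplicit false
set_option linter.unusedSectionVars false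
set_option linter.style.haveILetI false

namespace CfsgLib.Bender.Assembly

open MulAction Cfsg CfsgLib.Bender CfsgLib.Bender.TwoClosed

universe u

/-- Bender's theorem on one-fix actions. -/
def GoodAll : Prop :=
  ∀ (G Ω : Type u) [Group G] [Finite G] [MulAction G Ω] [FaithfulSMul G Ω], OneFix G Ω → B1.Good G Ω

/-- The minimal counterexample step gives the theorem. -/
theorem goodAll_of_step
    (h : ∀ (G Ω : Type u) [Group G] [Finite G] [MulAction G Ω] [FaithfulSMul G Ω],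
      OneFix G Ω → B1.Below.{u} (Nat.card G) → B1.Good G Ω) : GoodAll.{u} := by
  suffices hb : ∀ n : ℕ, B1.Below.{u} n from fun G Ω _ _ _ _ hC => h G Ω hC (hb _)
  intro n
  induction n with
  | zero => exact fun K Δ _ _ _ _ _ hlt => absurd hlt (Nat.not_lt_zero _)
  | succ n ih =>
    intro K Δ _ _ _ _ hC hlt
    refine h K Δ hC ?_
    intro K' Δ' _ _ _ _ hC' hlt'
    exact ih K' Δ' hC' (by omega)

/-- No bad elements. -/
theorem noBad (hA : GoodAll.{u}) {G Ω : Type u} [Group G] [Finite G] [MulAction G Ω] [FaithfulSMul G Ω]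
    (hC : OneFix G Ω) : NoBad G Ω :=
  B1.noBad_of_below hC fun K Δ _ _ _ _ h _ => hA K Δ h

theorem suzukiHyp : SuzukiHyp.{u} :=
  fun _ _ _ _ _ _ _ _ _ hS h4 => (CfsgLib.SuzukiRankOne.concl hS h4).2.2

variable {G : Type u} [Group G] [Finite G] {H : Subgroup G}

theorem orderOf_two {x : G} (hx : IsInv x) : orderOf x = 2 :=
  CfsgLib.Involutions.orderOf_eq_two_iff'.mpr ⟨hx.2, hx.1⟩

theorem isInv_of_orderOf {x : G} (hx : orderOf x = 2) : IsInv x := by
  obtain ⟨h2, h1⟩ := CfsgLib.Involutions.orderOf_eq_two_iff'.mp hx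
  exact ⟨h1, h2⟩

theorem fix_iff {x g : G} : x • ((g : G) : G ⧸ H) = ((g : G) : G ⧸ H) ↔ g⁻¹ * x * g ∈ H := by
  rw [MulAction.Quotient.smul_coe, eq_comm, QuotientGroup.eq, smul_eq_mul, mul_assoc]

/-- The action on the cosets of a strongly embedded subgroup. -/
theorem oneFix (hH : Cfsg.IsStronglyEmbedded H) (h4 : HasFour G) : OneFix G (G ⧸ H) := by
  refine ⟨inferInstance, fun x hx => ?_, h4⟩
  obtain ⟨s, hsH, hs1, hs2⟩ := exists_invol_mem hH
  obtain ⟨g, hg⟩ := isConj_iff.mp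
    (CfsgLib.StrongEmb.all_isConj hH (orderOf_two (⟨hs1, hs2⟩ : IsInv s)) (orderOf_two hx))
  refine ⟨(g : G ⧸ H), fix_iff.mpr ?_, fun c hc => ?_⟩
  · rwa [← hg, show g⁻¹ * (g * s * g⁻¹) * g = s by group]
  · induction c using QuotientGroup.induction_on with
    | _ k =>
      refine QuotientGroup.eq.mpr ?_
      have hk := fix_iff.mp hc
      by_contra hne
      refine Nat.not_even_iff_odd.mpr (hH.2.2 _ hne) (even_iff_two_dvd.mpr ?_)
      rw [← orderOf_two (hx.conj k⁻¹)]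
      refine Subgroup.orderOf_dvd_natCard _ ⟨by rwa [inv_inv], ?_⟩
      refine ⟨g⁻¹ * x * g, by rwa [← hg, show g⁻¹ * (g * s * g⁻¹) * g = s by group], ?_⟩
      show k⁻¹ * g * (g⁻¹ * x * g) * (k⁻¹ * g)⁻¹ = k⁻¹ * x * (k⁻¹)⁻¹
      group

/-- Part A of the consequences. -/
theorem benderHyp (hA : GoodAll.{u}) : BenderHyp.{u} := by
  intro G _ _ H hH hc h4
  haveI := CfsgLib.Bender.faithful hc
  obtain ⟨t, Q, hS, -⟩ := hA G (G ⧸ H) (oneFix hH h4) ((1 : G) : G ⧸ H)
  have hst : stabilizer G ((1 : G) : G ⧸ H) = H := stabilizer_one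
  have hQH : Q ≤ H := hS.le.trans hst.le
  have hne : ∀ {g : G}, g ∉ H → ((g : G) : G ⧸ H) ≠ ((1 : G) : G ⧸ H) := fun hg e => hg (mk_eq_one_iff.mp e)
  refine ⟨Q, hQH, ⟨fun q hq h => ?_⟩, fun g₁ g₂ h1 h2 => ?_, fun g hg u hu h => ?_⟩
  · exact hS.conj_mem h.1 (hst.ge h.2) q.1 hq
  · obtain ⟨⟨u, hu⟩, hu', -⟩ := RankOne.exists_unique_Q hS (hne h1) (hne h2)
    exact ⟨u, hu, QuotientGroup.eq.mp hu'.symm⟩
  · exact RankOne.eq_one_of_fix hS hu (hne hg) (fix_iff.mpr (by rwa [← mul_assoc] at h))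

/-- Without a four group commuting involutions are equal. -/
theorem eq_of_commute (h4 : ¬ HasFour G) {x y : G} (hx : IsInv x) (hy : IsInv y) (h : x * y = y * x) : x = y :=
  by_contra fun hne => h4 ⟨x, y, hx.1, hy.1, hne, hx.2, hy.2, h⟩

/-- S1220. -/
theorem doubly_transitive_or (hA : GoodAll.{u}) (hH : Cfsg.IsStronglyEmbedded H) :
    (∀ g₁ g₂ : G, g₁ ∉ H → g₂ ∉ H → ∃ h ∈ H, g₂⁻¹ * (h * g₁) ∈ H) ∨
      ((∀ S : Sylow 2 G, IsCyclic S ∨ ∃ m : ℕ, 1 ≤ m ∧ Nonempty ((S : Subgroup G) ≃* QuaternionGroup (2 ^ m))) ∧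
        Cfsg.oddCore G ⊔ H = ⊤) := by
  haveI : Fact (Nat.Prime 2) := ⟨Nat.prime_two⟩
  by_cases h4 : HasFour G
  · left
    intro g₁ g₂ h1 h2
    set π := QuotientGroup.mk' H.normalCore with hπ
    obtain ⟨hH', hc'⟩ := stronglyEmbedded_quotient hH
    obtain ⟨Q, hQM, -, htr, -⟩ := benderHyp hA _ _ hH' hc' (hasFour_quotient _ (odd_normalCore hH) h4)
    have hcm : (H.map π).comap π = H :=
      Subgroup.comap_map_eq_self (by rw [hπ, QuotientGroup.ker_mk']; exact H.normalCore_le)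
    have hout : ∀ {g : G}, g ∉ H → π g ∉ H.map π := fun hg h => hg (hcm.le h)
    obtain ⟨v, hv, hvm⟩ := htr _ _ (hout h1) (hout h2)
    obtain ⟨h, hh, rfl⟩ := hQM hv
    refine ⟨h, hh, hcm.le ?_⟩
    show π (g₂⁻¹ * (h * g₁)) ∈ H.map π
    rw [map_mul, map_inv, map_mul]
    exact hvm
  · right
    obtain ⟨s, hsH, hs1, hs2⟩ := exists_invol_mem hH
    refine ⟨fun S => ?_, ?_⟩
    · have huniq : ∀ A B : Subgroup S, Nat.card A = 2 → Nat.card B = 2 → A = B := by
        intro A B hA' hB'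
        obtain ⟨a, haA, ha2⟩ := CfsgLib.StronglyEmbedded.exists_orderOf_eq (p := 2) (dvd_of_eq hA'.symm : 2 ∣ Nat.card A)
        obtain ⟨b, hbB, hb2⟩ := CfsgLib.StronglyEmbedded.exists_orderOf_eq (p := 2) (dvd_of_eq hB'.symm : 2 ∣ Nat.card B)
        have hnt : Nontrivial S := nontrivial_of_ne a 1 fun e => by rw [e, orderOf_one] at ha2; omega
        haveI := hnt
        haveI := S.2.center_nontrivial
        obtain ⟨n, hn, hc⟩ := (S.2.to_subgroup (Subgroup.center S)).nontrivial_iff_card.mp inferInstance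
        obtain ⟨z, hzC, hz2⟩ := CfsgLib.StronglyEmbedded.exists_orderOf_eq (A := Subgroup.center S)
          (p := 2) (hc ▸ dvd_pow_self 2 hn.ne')
        have key : ∀ x : S, orderOf x = 2 → x = z := fun x hx => Subtype.ext (eq_of_commute h4
          (isInv_of_orderOf ((Subgroup.orderOf_coe x).trans hx))
          (isInv_of_orderOf ((Subgroup.orderOf_coe z).trans hz2))
          (congrArg Subtype.val (Subgroup.mem_center_iff.mp hzC x)))
        have hgen : ∀ (C : Subgroup S) (c : S), Nat.card C = 2 → c ∈ C → orderOf c = 2 → Subgroup.zpowers c = C :=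
          fun C c hC hcC hc2 => Subgroup.eq_of_le_of_card_ge (Subgroup.zpowers_le.mpr hcC)
            (by rw [Nat.card_zpowers, hc2]; exact hC.le)
        rw [← hgen A a hA' haA ha2, ← hgen B b hB' hbB hb2, key a ha2, key b hb2]
      rcases Cfsg.Agent.S0016.result 2 S.2 huniq with h | ⟨-, n, ⟨e⟩⟩
      · exact Or.inl h
      · rcases Nat.eq_zero_or_pos n with rfl | hn
        · left
          haveI : IsCyclic (QuaternionGroup (2 ^ 0)) :=
            isCyclic_of_orderOf_eq_card (QuaternionGroup.xa 0)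
              (by rw [QuaternionGroup.orderOf_xa, Nat.card_eq_fintype_card, QuaternionGroup.card]; norm_num)
          exact e.isCyclic.mpr inferInstance
        · exact Or.inr ⟨n, hn, ⟨e⟩⟩
    · have hs := orderOf_two (⟨hs1, hs2⟩ : IsInv s)
      exact top_unique ((rankOne_case (even_card hH) h4 s hs).1.ge.trans
        (sup_le_sup_left (CfsgLib.StrongEmb.centralizer_le hH hsH hs) _))

/-- S1221. -/
theorem oddCore_le (hA : GoodAll.{u}) (hH : Cfsg.IsStronglyEmbedded H) :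
    (Cfsg.oddCore ↥H).map H.subtype ≤ Cfsg.oddCore G := by
  haveI : Fact (Nat.Prime 2) := ⟨Nat.prime_two⟩
  set O := (Cfsg.oddCore ↥H).map H.subtype with hO
  have hoddcore : ∀ (X : Type u) [Group X] [Finite X], Odd (Nat.card (Cfsg.pPrimeCore 2 X)) := fun X _ _ =>
    Nat.not_even_iff_odd.1 fun e => CfsgLib.not_dvd_card_pPrimeCore Nat.prime_two e.two_dvd
  have hodd : Odd (Nat.card O) := by
    rw [hO, Subgroup.card_map_of_injective H.subtype_injective]
    exact hoddcore _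
  have hOH : O ≤ H := Subgroup.map_subtype_le _
  have hOn : ∀ h ∈ H, ∀ o ∈ O, h * o * h⁻¹ ∈ O := by
    rintro h hh _ ⟨o, ho, rfl⟩
    exact ⟨⟨h, hh⟩ * o * ⟨h, hh⟩⁻¹,
      (inferInstance : (Cfsg.pPrimeCore 2 ↥H).Normal).conj_mem o ho ⟨h, hh⟩, rfl⟩
  by_cases h4 : HasFour G
  · rw [show Cfsg.oddCore G = H.normalCore from (normalCore_eq (benderHyp hA) h4 hH).symm]
    set π := QuotientGroup.mk' H.normalCore with hπ
    obtain ⟨hH', hc'⟩ := stronglyEmbedded_quotient hH
    haveI := CfsgLib.Bender.faithful hc'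
    obtain ⟨t, Q, hS, hQ2⟩ :=
      hA _ _ (oneFix hH' (hasFour_quotient _ (odd_normalCore hH) h4)) ((1 : G ⧸ H.normalCore) : _ ⧸ H.map π)
    set a : (G ⧸ H.normalCore) ⧸ H.map π := ((1 : G ⧸ H.normalCore) : _ ⧸ H.map π) with ha
    have hst : stabilizer (G ⧸ H.normalCore) a = H.map π := stabilizer_one
    intro o ho
    refine (QuotientGroup.eq_one_iff o).mp ?_
    show π o = 1
    have hxO : π o ∈ O.map π := ⟨o, ho, rfl⟩
    generalize π o = x at hxO ⊢
    have hxa : x • a = a := mem_stabilizer_iff.mp (hst.ge (Subgroup.map_mono hOH hxO))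
    have hOπ : Odd (Nat.card (O.map π)) := hodd.of_dvd_nat (Subgroup.card_map_dvd _ _)
    have hnorm : ∀ h ∈ H.map π, ∀ w ∈ O.map π, h * w * h⁻¹ ∈ O.map π := by
      rintro _ ⟨h, hh, rfl⟩ _ ⟨w, hw, rfl⟩
      exact ⟨h * w * h⁻¹, hOn h hh w hw, by rw [map_mul, map_mul, map_inv]⟩
    have hinf : ∀ w ∈ O.map π, w ∈ Q → w = 1 := fun w hw hwQ => by
      obtain ⟨k, hk⟩ := hQ2 ⟨w, hwQ⟩
      have h1 : w ^ 2 ^ k = 1 := congrArg Subtype.val hk
      have h2 : w ^ Nat.card (O.map π) = 1 :=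
        congrArg Subtype.val (pow_card_eq_one' (x := (⟨w, hw⟩ : O.map π)))
      have := pow_gcd_eq_one.mpr ⟨h1, h2⟩
      rwa [Nat.Coprime.gcd_eq_one ((Nat.coprime_two_left.mpr hOπ).pow_left k), pow_one] at this
    have hcomm : ∀ q ∈ Q, x * q = q * x := fun q hq => by
      have hqH := hst.le (hS.le hq)
      have h1 : x * q * x⁻¹ * q⁻¹ ∈ Q := mul_mem (RankOne.conj_Q hS hxa hq) (inv_mem hq)
      have h2 : x * q * x⁻¹ * q⁻¹ ∈ O.map π := by
        rw [show x * q * x⁻¹ * q⁻¹ = x * (q * x⁻¹ * q⁻¹) by group]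
        exact mul_mem hxO (hnorm q hqH _ (inv_mem hxO))
      have := hinf _ h2 h1
      rwa [mul_inv_eq_one, mul_inv_eq_iff_eq_mul] at this
    obtain ⟨y, hy, d, hd, rfl⟩ := RankOne.exists_decomp hS hxa
    have hyd : Commute y d := by
      have h : y * (d * y) = y * (y * d) := by rw [← mul_assoc]; exact hcomm y hy
      exact (mul_left_cancel h).symm
    have hn : y ^ Nat.card (O.map π) = 1 := by
      have h2 : (y * d) ^ Nat.card (O.map π) = 1 :=
        congrArg Subtype.val (pow_card_eq_one' (x := (⟨_, hxO⟩ : O.map π)))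
      rw [hyd.mul_pow, mul_eq_one_iff_eq_inv] at h2
      have hmem : y ^ Nat.card (O.map π) ∈ Q ⊓ stabilizer _ (t • a) :=
        Subgroup.mem_inf.mpr ⟨pow_mem hy _, h2 ▸ inv_mem (pow_mem hd.2 _)⟩
      rwa [hS.inf_eq_bot, Subgroup.mem_bot] at hmem
    have hy1 : y = 1 := by
      obtain ⟨k, hk⟩ := hQ2 ⟨y, hy⟩
      have := pow_gcd_eq_one.mpr ⟨(congrArg Subtype.val hk : y ^ 2 ^ k = 1), hn⟩
      rwa [Nat.Coprime.gcd_eq_one ((Nat.coprime_two_left.mpr hOπ).pow_left k), pow_one] at this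
    subst hy1
    rw [one_mul] at hcomm hxa ⊢
    obtain ⟨-, hdt⟩ := (RankOne.mem_D hS).mp hd
    refine FaithfulSMul.eq_of_smul_eq_smul (α := (G ⧸ H.normalCore) ⧸ H.map π) fun c => ?_
    rw [one_smul]
    by_cases hc : c = a
    · rw [hc, hxa]
    · obtain ⟨q, hq, rfl⟩ := RankOne.exists_Q_ta hS hc
      rw [← mul_smul, hcomm q hq, mul_smul, hdt]
  · obtain ⟨s, hsH, hs1, hs2⟩ := exists_invol_mem hH
    have hs := orderOf_two (⟨hs1, hs2⟩ : IsInv s)
    have htop : Cfsg.pPrimeCore 2 G ⊔ H = ⊤ := top_unique ((rankOne_case (even_card hH) h4 s hs).1.ge.trans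
      (sup_le_sup_left (CfsgLib.StrongEmb.centralizer_le hH hsH hs) _))
    set π := QuotientGroup.mk' (Cfsg.pPrimeCore 2 G)
    haveI hN : (O.map π).Normal := ⟨fun w hw g => by
      obtain ⟨o, ho, rfl⟩ := hw
      obtain ⟨g, rfl⟩ := QuotientGroup.mk'_surjective _ g
      obtain ⟨n, hn, h, hh, rfl⟩ := Subgroup.mem_sup_of_normal_left.mp (htop ▸ Subgroup.mem_top g)
      refine ⟨h * o * h⁻¹, hOn h hh o ho, ?_⟩
      have hn1 : π n = 1 := (QuotientGroup.eq_one_iff n).mpr hn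
      rw [map_mul π n h, hn1, one_mul, map_mul, map_mul, map_inv]⟩
    have hle : (O.map π).comap π ≤ Cfsg.pPrimeCore 2 G := by
      refine le_pPrimeCore (coprime_two_of_odd ?_)
      refine odd_card_of_forall fun x hx hxi => ?_
      have h1 : π x = 1 := eq_one_of_two_odd (by rw [pow_two, ← map_mul, hxi.2, map_one])
        (odd_orderOf (hodd.of_dvd_nat (Subgroup.card_map_dvd O π)) (hx : π x ∈ O.map π))
      exact not_mem_of_invol (hoddcore G) hxi.1 hxi.2 ((QuotientGroup.eq_one_iff x).mp h1)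
    exact fun o ho => hle (⟨o, ho, rfl⟩ : π o ∈ O.map π)

/-- S1223. -/
theorem odd_centralizer (hA : GoodAll.{u}) (hH : Cfsg.IsStronglyEmbedded H) (hcore : H.normalCore = ⊥) {v : G}
    (hv : IsInv v) (hvH : v ∉ H) {j : G} (hj : j ∈ H ⊓ H.map (MulAut.conj v).toMonoidHom) (hj1 : j ≠ 1)
    (hinv : v * j * v⁻¹ = j⁻¹) : Odd (Nat.card (Subgroup.centralizer ({j} : Set G))) := by
  have hjodd : Odd (orderOf j) :=
    (hH.2.2 v hvH).of_dvd_nat (Subgroup.orderOf_dvd_natCard _ hj)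
  refine odd_card_of_forall fun i hij hi => ?_
  have hcom : i * j = j * i := Subgroup.mem_centralizer_singleton_iff.mp hij
  by_cases h4 : HasFour G
  · haveI := CfsgLib.Bender.faithful hcore
    have hF := oneFix hH h4
    have hja : j • ((1 : G) : G ⧸ H) = ((1 : G) : G ⧸ H) :=
      fix_iff.mpr (by simpa using (Subgroup.mem_inf.mp hj).1)
    have hjb : j • ((v : G) : G ⧸ H) = ((v : G) : G ⧸ H) :=
      fix_iff.mpr (Local.mem_map_conj.1 (Subgroup.mem_inf.mp hj).2)
    have hne : ((v : G) : G ⧸ H) ≠ ((1 : G) : G ⧸ H) := fun e => hvH (mk_eq_one_iff.mp e)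
    have hfix := fun c : G ⧸ H => OneFix.fix_inverted hF (noBad hA hF) hne hv (by rwa [hv.inv] at hinv)
      (mem_two.mpr ⟨hja, hjb⟩) hj1 (c := c)
    obtain ⟨c, hc⟩ := OneFix.exists_fix hF hi
    have hjc : j • c = c := OneFix.commute_fix hF hi hc hcom.symm
    have hperm : ∀ d : G ⧸ H, j • d = d → j • i • d = i • d := fun d hd => by
      rw [← mul_smul, ← hcom, mul_smul, hd]
    rcases hfix c hjc with rfl | rfl
    · rcases hfix _ (hperm _ hjb) with e | e
      · exact hne (smul_left_cancel i (e.trans hc.symm))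
      · exact hne (OneFix.eq_of_fix hF hi e hc)
    · rcases hfix _ (hperm _ hja) with e | e
      · exact hne (OneFix.eq_of_fix hF hi hc e)
      · exact hne (smul_left_cancel i (e.trans hc.symm)).symm
  · have hodd : Odd (orderOf (i * v)) := by
      refine Nat.not_even_iff_odd.mp fun he => ?_
      obtain ⟨h1, h2⟩ := CfsgLib.Involutions.central_half hi.2 hv.2 he
      obtain ⟨w2, w1⟩ := CfsgLib.Involutions.orderOf_eq_two_iff'.mp (CfsgLib.Involutions.orderOf_half he)
      have hiv : i = v := (eq_of_commute h4 (⟨w1, w2⟩ : IsInv _) hi h1).symm.trans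
        (eq_of_commute h4 (⟨w1, w2⟩ : IsInv _) hv h2)
      subst hiv
      exact hj1 (eq_one_of_inv_eq (by rw [← hinv, hcom, mul_inv_cancel_right]) hjodd)
    obtain ⟨n, hn⟩ := CfsgLib.Involutions.exists_sqrt hodd
    set g := (i * v) ^ n with hg
    have hgn : g ∈ Subgroup.normalizer (Subgroup.zpowers j : Set G) := by
      refine pow_mem (mul_mem ?_ ?_) n
      · refine mem_normalizer_of_conj fun e he => ?_
        obtain ⟨k, rfl⟩ := Subgroup.mem_zpowers_iff.mp he
        rw [← conj_zpow, hcom, mul_inv_cancel_right]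
        exact Subgroup.zpow_mem _ (Subgroup.mem_zpowers j) k
      · refine mem_normalizer_of_conj fun e he => ?_
        obtain ⟨k, rfl⟩ := Subgroup.mem_zpowers_iff.mp he
        rw [← conj_zpow, hinv]
        exact Subgroup.zpow_mem _ (inv_mem (Subgroup.mem_zpowers j)) k
    have hgi : g⁻¹ * i * g = v := by
      have hginv : i * g * i = g⁻¹ := by
        have h := conj_pow (i := n) (a := i) (b := i * v)
        rw [hi.inv, show i * (i * v) * i = v * i by rw [← mul_assoc, hi.2, one_mul]] at h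
        rw [hg, ← h, ← inv_pow, mul_inv_rev, hi.inv, hv.inv]
      have h2 : g * g = i * v := hn
      have h3 : i * g = g⁻¹ * i := by
        rw [← hginv, mul_assoc (i * g), hi.2, mul_one]
      calc g⁻¹ * i * g = g⁻¹ * (g⁻¹ * i) := by rw [mul_assoc, h3]
        _ = (g * g)⁻¹ * i := by rw [mul_inv_rev, mul_assoc]
        _ = v := by rw [h2, mul_inv_rev, hi.inv, hv.inv, mul_assoc, hi.2, mul_one]
    obtain ⟨k, hk⟩ := Subgroup.mem_zpowers_iff.mp
      (conj_mem_of_normalizer hgn (Subgroup.mem_zpowers j))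
    have hvj : v * j * v⁻¹ = j := by
      have hik : i * (g * j * g⁻¹) = g * j * g⁻¹ * i := by
        rw [← hk]
        exact ((show Commute i j from hcom).zpow_right k).eq
      rw [← hgi]
      calc g⁻¹ * i * g * j * (g⁻¹ * i * g)⁻¹ = g⁻¹ * (i * (g * j * g⁻¹)) * i⁻¹ * g := by group
        _ = g⁻¹ * (g * j * g⁻¹ * i) * i⁻¹ * g := by rw [hik]
        _ = j := by group
    exact hj1 (eq_one_of_inv_eq (hinv.symm.trans hvj) hjodd)

end CfsgLib.Bender.Assembly
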