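import Cfsg.Agent.Lib.Bender.GoodStep
import Cfsg.Agent.Lib.Bender.FromB1.NC.Final

/-!
Bender's theorem on one-fix actions.
-/

set_option autoImplicit false

namespace CfsgLib.Bender.Assembly

universe u

/-- The non-commuting case. -/
theorem commHyp : CommHyp.{u} := fun _ _ _ _ _ _ hF hNB hBel _ _ _ _ hab hx hp h3 h4 =>
  NC.commAt_of_rankOne hF hNB hBel hab hx hp h3 h4

/-- Bender's theorem on one-fix actions. -/
theorem goodAll : GoodAll.{u} := goodAll_of_commHyp commHyp

end CfsgLib.Bender.Assembly
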