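import Cfsg.Agent.Lib.Bender.ConsSetup
import Cfsg.Prelude.Def_Exceptional
import Cfsg.Agent.S1163

/-! Bender–Suzuki, part C: simple groups with a strongly embedded subgroup. -/

set_option autoImplicit false
set_option linter.unusedSectionVars false
set_option linter.style.haveILetI false

namespace CfsgLib.Bender

universe u

variable {G : Type u} [Group G] [Finite G] {H Q : Subgroup G}

theorem even_card (hH : Cfsg.IsStronglyEmbedded H) : Even (Nat.card G) :=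
  even_iff_two_dvd.2 (hH.2.1.two_dvd.trans (Subgroup.card_subgroup_dvd_card H))

theorem hasFour_of_klein {E : Subgroup G} (hE : IsKleinFour E) : HasFour G := by
  haveI := hE
  haveI : Nontrivial E := Finite.one_lt_card_iff_nontrivial.1 (by rw [IsKleinFour.card_four]; omega)
  obtain ⟨x, hx⟩ := exists_ne (1 : E)
  obtain ⟨y, hy1, hy2⟩ : ∃ y : E, y ≠ 1 ∧ y ≠ x := by
    by_contra h
    push Not at h
    have hsub : (Set.univ : Set E) ⊆ {1, x} := fun y _ => by
      rcases eq_or_ne y 1 with e | e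
      · exact Or.inl e
      · exact Or.inr (h y e)
    have := Set.ncard_le_ncard hsub (Set.toFinite _)
    rw [Set.ncard_univ, IsKleinFour.card_four] at this
    have h2 : ({1, x} : Set E).ncard ≤ 2 :=
      (Set.ncard_insert_le _ _).trans (by rw [Set.ncard_singleton])
    omega
  refine ⟨x, y, fun e => hx (Subtype.ext e), fun e => hy1 (Subtype.ext e),
    fun e => hy2 (Subtype.ext e.symm), ?_, ?_, ?_⟩
  · exact congrArg Subtype.val (IsKleinFour.mul_self x)
  · exact congrArg Subtype.val (IsKleinFour.mul_self y)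
  · exact congrArg Subtype.val (mul_comm_of_exponent_two (IsKleinFour.exponent_two (G := E)) x y)

theorem not_comm [IsSimpleGroup G] (hH : Cfsg.IsStronglyEmbedded H) :
    ∃ a b : G, a * b ≠ b * a := by
  by_contra h
  push Not at h
  have hn : H.Normal := ⟨fun x hx g => by rw [h g x, mul_inv_cancel_right]; exact hx⟩
  rcases hn.eq_bot_or_eq_top with e | e
  · exact absurd hH.2.1 (by rw [e, Subgroup.card_bot]; simp)
  · exact hH.1 e

theorem normalCore_eq_bot [IsSimpleGroup G] (hH : Cfsg.IsStronglyEmbedded H) :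
    H.normalCore = ⊥ :=
  (Subgroup.normalCore_normal H).eq_bot_or_eq_top.resolve_right fun e =>
    hH.1 (top_le_iff.1 (e ▸ H.normalCore_le))

theorem hasFour_of_simple [IsSimpleGroup G] (hH : Cfsg.IsStronglyEmbedded H) : HasFour G := by
  by_cases hE : ∃ E : Subgroup G, IsKleinFour E
  · exact hasFour_of_klein hE.choose_spec
  push Not at hE
  exfalso
  obtain ⟨z, hz, N, hN, hodd, hzN⟩ := Cfsg.Agent.S0225.result (even_card hH) hE
  rcases hN.eq_bot_or_eq_top with e | e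
  · have hzc : z ∈ Subgroup.center G := Subgroup.mem_center_iff.2 fun g => by
      have := hzN g
      rw [e, Subgroup.mem_bot, mul_inv_eq_one, mul_inv_eq_iff_eq_mul] at this
      exact this.symm
    rcases (inferInstance : (Subgroup.center G).Normal).eq_bot_or_eq_top with ec | ec
    · rw [ec, Subgroup.mem_bot] at hzc
      rw [hzc, orderOf_one] at hz
      exact absurd hz (by norm_num)
    · obtain ⟨a, b, hab⟩ := not_comm hH
      exact hab (Subgroup.mem_center_iff.1 (ec ▸ Subgroup.mem_top b) a)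
  · rw [e, Subgroup.card_top] at hodd
    exact Nat.not_odd_iff_even.2 (even_card hH) hodd

theorem charP_two_of_card {F : Type*} [Field F] [Fintype F] {n : ℕ} (hc : Fintype.card F = 2 ^ n)
    (hn : n ≠ 0) : CharP F 2 := by
  obtain ⟨m, hp, hm⟩ := FiniteField.card F (ringChar F)
  have h2 : ringChar F = 2 := by
    have h : ringChar F ∣ 2 ^ n := hc ▸ hm ▸ dvd_pow_self _ m.2.ne'
    exact (Nat.prime_dvd_prime_iff_eq hp Nat.prime_two).1 (hp.dvd_of_dvd_pow h)
  exact h2 ▸ ringChar.charP F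

theorem four_le_two_pow {n : ℕ} (hn : 2 ≤ n) : 4 ≤ 2 ^ n :=
  Nat.pow_le_pow_right (by norm_num : 0 < 2) hn

/-- The three families, with the isomorphisms at the level of the whole group. -/
def IsBenderGroup (G : Type u) [Group G] : Prop :=
  (∃ (F : Type) (_ : Field F) (_ : Fintype F), (∃ n : ℕ, 2 ≤ n ∧ Fintype.card F = 2 ^ n) ∧
      Nonempty (G ≃* Matrix.ProjectiveSpecialLinearGroup (Fin 2) F)) ∨
    Cfsg.Lie.IsoSuzuki G ∨
    (∃ (F : Type) (_ : Field F) (_ : Fintype F) (n : ℕ), 2 ≤ n ∧ Fintype.card F = (2 ^ n) ^ 2 ∧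
      Nonempty (G ≃* Cfsg.PSU 3 F (2 ^ n)))

theorem isBenderGroup_of_regular (hB : SuzukiHyp.{u}) [IsSimpleGroup G]
    (hH : Cfsg.IsStronglyEmbedded H) (hQH : Q ≤ H) (hQn : (Q.subgroupOf H).Normal)
    (htrans : ∀ g₁ g₂ : G, g₁ ∉ H → g₂ ∉ H → ∃ u ∈ Q, g₂⁻¹ * (u * g₁) ∈ H)
    (hreg : ∀ g : G, g ∉ H → ∀ u ∈ Q, g⁻¹ * (u * g) ∈ H → u = 1) : IsBenderGroup G := by
  obtain ⟨t, -, hS⟩ := setup hH hQH hQn htrans hreg
  haveI := faithful (normalCore_eq_bot hH)
  obtain ⟨L, hLn, hLi, hL⟩ := hB G (G ⧸ H) _ t Q hS (hasFour_of_simple hH)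
  have hLtop : L = ⊤ := hLn.eq_bot_or_eq_top.resolve_left fun e => by
    rw [e, Subgroup.index_bot] at hLi
    exact Nat.not_odd_iff_even.2 (even_card hH) hLi
  subst hLtop
  let e : G ≃* (⊤ : Subgroup G) := Subgroup.topEquiv.symm
  rcases hL with ⟨F, i1, i2, hn, ⟨f⟩⟩ | ⟨F, i1, i2, m, hm, hc, ⟨f⟩⟩ | ⟨F, i1, i2, n, hn, hc, ⟨f⟩⟩
  · exact Or.inl ⟨F, i1, i2, hn, ⟨e.trans f⟩⟩
  · exact Or.inr (Or.inl ⟨F, i1, i2, m, hm, hc, ⟨e.trans f⟩⟩)
  · exact Or.inr (Or.inr ⟨F, i1, i2, n, hn, hc, ⟨e.trans f⟩⟩)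

theorem isBenderGroup_of_stronglyEmbedded (hA : BenderHyp.{u}) (hB : SuzukiHyp.{u}) [IsSimpleGroup G]
    (hH : Cfsg.IsStronglyEmbedded H) : IsBenderGroup G := by
  obtain ⟨Q, h1, h2, h3, h4⟩ := hA G H hH (normalCore_eq_bot hH) (hasFour_of_simple hH)
  exact isBenderGroup_of_regular hB hH h1 h2 h3 h4

theorem isSuzuki_of_iso [IsSimpleGroup G] (h : Cfsg.Lie.IsoSuzuki G) : Cfsg.IsSuzuki G := by
  obtain ⟨F, i1, i2, m, hm, hc, ⟨e⟩⟩ := h
  refine ⟨inferInstance, m, hm, ?_⟩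
  rw [Nat.card_congr e.toEquiv, (Cfsg.Agent.S1163.result hm hc).1]
  ring

/-- The conclusion shared by S0222 and S1222. -/
theorem bender_cases [IsSimpleGroup G] (h : IsBenderGroup G) :
    (∃ (F : Type) (_ : Field F) (_ : Fintype F), CharP F 2 ∧ 4 ≤ Fintype.card F ∧
        Nonempty (G ≃* Matrix.ProjectiveSpecialLinearGroup (Fin 2) F)) ∨ Cfsg.IsSuzuki G ∨
      (∃ (F : Type) (_ : Field F) (_ : Fintype F) (q : ℕ), Fintype.card F = q ^ 2 ∧ Even q ∧ 4 ≤ q ∧
        Nonempty (G ≃* Cfsg.PSU 3 F q)) := by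
  rcases h with ⟨F, i1, i2, ⟨n, hn, hc⟩, hf⟩ | h | ⟨F, i1, i2, n, hn, hc, hf⟩
  · exact Or.inl ⟨F, i1, i2, charP_two_of_card hc (by omega), hc ▸ four_le_two_pow hn, hf⟩
  · exact Or.inr (Or.inl (isSuzuki_of_iso h))
  · exact Or.inr (Or.inr ⟨F, i1, i2, 2 ^ n, hc, (Nat.even_pow.2 ⟨even_two, by omega⟩),
      four_le_two_pow hn, hf⟩)

/-- S0222, conditional. -/
theorem simple_stronglyEmbedded (hA : BenderHyp.{u}) (hB : SuzukiHyp.{u}) [IsSimpleGroup G]
    (hH : Cfsg.IsStronglyEmbedded H) :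
    (∃ (F : Type) (_ : Field F) (_ : Fintype F), CharP F 2 ∧ 4 ≤ Fintype.card F ∧
        Nonempty (G ≃* Matrix.ProjectiveSpecialLinearGroup (Fin 2) F)) ∨ Cfsg.IsSuzuki G ∨
      (∃ (F : Type) (_ : Field F) (_ : Fintype F) (q : ℕ), Fintype.card F = q ^ 2 ∧ Even q ∧ 4 ≤ q ∧
        Nonempty (G ≃* Cfsg.PSU 3 F q)) :=
  bender_cases (isBenderGroup_of_stronglyEmbedded hA hB hH)

end CfsgLib.Bender
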