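import Cfsg.Agent.Lib.Bender.ConsSimple
import Cfsg.Prelude.Def_ClassificationStages
import Cfsg.Agent.S1118
import Cfsg.Agent.S1119
import Cfsg.Agent.S1129

/-! Bender–Suzuki, part C: the point stabiliser in the simple case (S1792, S2027). -/

set_option autoImplicit false
set_option linter.unusedSectionVars false
set_option linter.style.haveILetI false

namespace CfsgLib.Bender

universe u

variable {G : Type u} [Group G] [Finite G] {M Q : Subgroup G}

theorem isStronglyEmbedded_of_two {X : Subgroup G} (hX : Cfsg.IsStronglyPEmbedded 2 X) :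
    Cfsg.IsStronglyEmbedded X := by
  haveI : Fact (Nat.Prime 2) := ⟨Nat.prime_two⟩
  exact ⟨hX.2.1, even_iff_two_dvd.2 (StronglyEmbedded.dvd_card_of hX), fun g hg =>
    Nat.not_even_iff_odd.1 fun h => StronglyEmbedded.not_dvd_inter hX hg h.two_dvd⟩

/-- Everything the consequences need about the regular normal subgroup. -/
theorem point_facts (hA : BenderHyp.{u}) (hH : Cfsg.IsStronglyEmbedded M) (hc : M.normalCore = ⊥)
    (h4 : HasFour G) :
    ∃ (Q : Subgroup G) (t : G), t ∉ M ∧ Q ≤ M ∧ (Q.subgroupOf M).Normal ∧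
      (∀ g₁ g₂ : G, g₁ ∉ M → g₂ ∉ M → ∃ u ∈ Q, g₂⁻¹ * (u * g₁) ∈ M) ∧
      (∀ g : G, g ∉ M → ∀ u ∈ Q, g⁻¹ * (u * g) ∈ M → u = 1) ∧
      Subgroup.normalizer (M : Set G) = M ∧
      Q ⊔ (M ⊓ M.map (MulAut.conj t).toMonoidHom) = M ∧
      Group.IsNilpotent Q ∧
      ∃ S : Sylow 2 G, (S : Subgroup G) ≤ Q ∧ M = Subgroup.normalizer ((S : Subgroup G) : Set G) := by
  haveI : Fact (Nat.Prime 2) := ⟨Nat.prime_two⟩
  obtain ⟨Q, hQM, hQn, htr, hreg⟩ := hA G M hH hc h4
  obtain ⟨t, htM, hS⟩ := setup hH hQM hQn htr hreg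
  haveI := faithful hc
  have hnil : Group.IsNilpotent Q := Cfsg.Agent.S1129.result hS h4
  obtain ⟨hnorm, -, hnM⟩ := Cfsg.Agent.S1118.result hS
  rw [stabilizer_one] at hnM
  obtain ⟨-, -, -, ⟨P, hPQ⟩, -⟩ := Cfsg.Agent.S1119.result hS
  have hsup := hS.sup_eq
  have hst : MulAction.stabilizer G (t • ((1 : G) : G ⧸ M)) = M.map (MulAut.conj t).toMonoidHom := by
    ext x
    rw [smul_mk, mul_one, mem_stab_mk, Local.mem_map_conj]
    simp [mul_assoc]
  rw [stabilizer_one, hst] at hsup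
  refine ⟨Q, t, htM, hQM, hQn, htr, hreg, hnM, hsup, hnil, P, hPQ, ?_⟩
  have hP1 : (P : Subgroup G) ≠ ⊥ := fun e => by
    have := P.dvd_card_of_dvd_card (even_card hH).two_dvd
    rw [e, Subgroup.card_bot] at this
    omega
  refine le_antisymm (fun m hm => ?_) ?_
  · haveI : (↑(P.subtype hPQ) : Subgroup Q).Normal := by
      exact ((Group.isNilpotent_of_finite_tfae (G := Q)).out 0 3 rfl rfl).1 hnil 2 inferInstance _
    haveI : Subsingleton (Sylow 2 Q) :=
      (Sylow.unique_of_normal (P.subtype hPQ) inferInstance).instSubsingleton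
    have hle : ((m • P : Sylow 2 G) : Subgroup G) ≤ Q := by
      intro x hx
      obtain ⟨y, hy, rfl⟩ := hx
      exact conj_mem_of hQM hQn hm (hPQ hy) rfl
    have heq : ((m • P : Sylow 2 G) : Subgroup G) = P := by
      have h := congrArg (fun R : Sylow 2 Q => (R : Subgroup Q).map Q.subtype)
        (Subsingleton.elim ((m • P).subtype hle) (P.subtype hPQ))
      simpa [Sylow.coe_subtype, Subgroup.subgroupOf_map_subtype, hle, hPQ] using h
    refine Local.mem_normalizer_of_map_conj_eq ?_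
    exact heq
  · have := hnorm ((P : Subgroup G) : Set G) (fun x hx => hPQ hx) (Subgroup.ne_bot_iff_exists_ne_one.1 hP1 |>.elim
      fun x hx => ⟨x, x.2, fun e => hx (Subtype.ext e)⟩)
    rwa [stabilizer_one] at this

/-- S1792, conditional. -/
theorem borel (hA : BenderHyp.{u}) (hB : SuzukiHyp.{u}) [IsSimpleGroup G]
    (hM : Cfsg.IsStronglyPEmbedded 2 M) :
    ((∃ (F : Type) (_ : Field F) (_ : Fintype F) (n : ℕ), 2 ≤ n ∧ Fintype.card F = 2 ^ n ∧
        Nonempty (G ≃* Matrix.ProjectiveSpecialLinearGroup (Fin 2) F)) ∨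
      Cfsg.Lie.IsoSuzuki G ∨
      (∃ (F : Type) (_ : Field F) (_ : Fintype F) (n : ℕ), 2 ≤ n ∧ Fintype.card F = (2 ^ n) ^ 2 ∧
        Nonempty (G ≃* Cfsg.PSU 3 F (2 ^ n)))) ∧
    ∃ S : Sylow 2 G, M = Subgroup.normalizer ((S : Subgroup G) : Set G) := by
  have hH := isStronglyEmbedded_of_two hM
  refine ⟨?_, ?_⟩
  · rcases isBenderGroup_of_stronglyEmbedded hA hB hH with ⟨F, i1, i2, ⟨n, hn, hc⟩, hf⟩ | h | h
    · exact Or.inl ⟨F, i1, i2, n, hn, hc, hf⟩
    · exact Or.inr (Or.inl h)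
    · exact Or.inr (Or.inr h)
  · obtain ⟨_, _, -, -, -, -, -, -, -, -, S, -, hS⟩ :=
      point_facts hA hH (normalCore_eq_bot hH) (hasFour_of_simple hH)
    exact ⟨S, hS⟩

theorem map_conj_map_conj (a b : G) (K : Subgroup G) :
    (K.map (MulAut.conj a).toMonoidHom).map (MulAut.conj b).toMonoidHom
      = K.map (MulAut.conj (b * a)).toMonoidHom := by
  rw [Subgroup.map_map]
  congr 1
  ext x
  simp [mul_assoc]

theorem map_conj_eq_iff (hn : Subgroup.normalizer (M : Set G) = M) {a b : G} :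
    M.map (MulAut.conj a).toMonoidHom = M.map (MulAut.conj b).toMonoidHom ↔ b⁻¹ * a ∈ M := by
  constructor
  · intro h
    rw [← hn]
    refine Local.mem_normalizer_of_map_conj_eq ?_
    rw [← map_conj_map_conj, h, map_conj_map_conj, inv_mul_cancel]
    ext x
    simp
  · intro h
    have h1 : M.map (MulAut.conj (b⁻¹ * a)).toMonoidHom = M :=
      Local.map_conj_eq_of_mem_normalizer (hn.symm ▸ h)
    conv_rhs => rw [← h1]
    rw [map_conj_map_conj, mul_inv_cancel_left]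

theorem map_conj_ne_iff (hn : Subgroup.normalizer (M : Set G) = M) {g : G} :
    M.map (MulAut.conj g).toMonoidHom ≠ M ↔ g ∉ M := by
  have h := map_conj_eq_iff hn (a := g) (b := 1)
  rw [inv_one, one_mul] at h
  rw [Ne, ← h]
  have : M.map (MulAut.conj (1 : G)).toMonoidHom = M := by ext x; simp
  rw [this]

/-- S2027, conditional. -/
theorem suzukiType (hA : BenderHyp.{u}) [IsSimpleGroup G] (hM : Cfsg.IsStronglyPEmbedded 2 M) :
    Cfsg.IsDoublyTransitiveSuzukiType M := by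
  have hH := isStronglyEmbedded_of_two hM
  obtain ⟨Q, t, htM, hQM, hQn, htr, hreg, hn, hsup, hnil, S, hSQ, -⟩ :=
    point_facts hA hH (normalCore_eq_bot hH) (hasFour_of_simple hH)
  have hnt : Subgroup.normalizer ((M.map (MulAut.conj t).toMonoidHom : Subgroup G) : Set G)
      = M.map (MulAut.conj t).toMonoidHom := by
    refine le_antisymm (fun x hx => ?_) Subgroup.le_normalizer
    have h1 := Local.map_conj_eq_of_mem_normalizer hx
    rw [map_conj_map_conj, map_conj_eq_iff hn] at h1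
    exact Local.mem_map_conj.2 (by simpa [mul_assoc] using h1)
  refine ⟨hn, ⟨t, (map_conj_ne_iff hn).2 htM⟩, ?_, t, (map_conj_ne_iff hn).2 htM, Q, hQM, hQn, ?_,
    ?_, hnil, ⟨S, hSQ⟩, ?_⟩
  · intro g₁ g₂ h₁ h₂
    obtain ⟨u, hu, h⟩ := htr g₁ g₂ ((map_conj_ne_iff hn).1 h₁) ((map_conj_ne_iff hn).1 h₂)
    exact ⟨u, hQM hu, by rw [map_conj_map_conj, map_conj_eq_iff hn]; exact h⟩
  · rw [hnt]
    refine (Subgroup.eq_bot_iff_forall _).2 fun x hx => hreg t htM x hx.1 ?_
    have := Local.mem_map_conj.1 hx.2.2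
    simpa [mul_assoc] using this
  · rwa [hnt]
  · intro g₁ g₂ h₁ h₂
    have h₁' := (map_conj_ne_iff hn).1 h₁
    obtain ⟨u, hu, h⟩ := htr g₁ g₂ h₁' ((map_conj_ne_iff hn).1 h₂)
    refine ⟨⟨u, hu⟩, by show _ = _; rw [map_conj_map_conj, map_conj_eq_iff hn]; exact h, ?_⟩
    rintro ⟨v, hv⟩ hv'
    rw [map_conj_map_conj, map_conj_eq_iff hn] at hv'
    refine Subtype.ext (inv_mul_eq_one.1 (hreg g₁ h₁' (u⁻¹ * v) (Q.mul_mem (Q.inv_mem hu) hv) ?_)).symm
    have h2 := M.mul_mem (M.inv_mem h) hv'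
    convert h2 using 1
    group

end CfsgLib.Bender
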