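import Cfsg.Agent.Lib.Bender.ConsPoint
import Cfsg.Agent.Lib.Basic
import Cfsg.Agent.S1120
import Cfsg.Agent.S0205

/-! Bender–Suzuki, part C: reduction modulo the odd normal core (S2903 and the input of S2798). -/

set_option autoImplicit false
set_option linter.unusedSectionVars false
set_option linter.style.haveILetI false

namespace CfsgLib.Bender

universe u

variable {G : Type u} [Group G] [Finite G] {H : Subgroup G}

theorem solvable_of_odd (hodd : Odd (Nat.card G)) : Group.IsSolvable G :=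
  Cfsg.Agent.S0205.result hodd

theorem coprime_two_of_odd {n : ℕ} (h : Odd n) : Nat.Coprime n 2 :=
  Nat.coprime_two_right.2 h

theorem odd_of_coprime_two {n : ℕ} (h : Nat.Coprime n 2) : Odd n :=
  Nat.coprime_two_right.1 h

theorem odd_normalCore (hH : Cfsg.IsStronglyEmbedded H) : Odd (Nat.card H.normalCore) := by
  obtain ⟨t, -, -, htH⟩ := exists_invol_outside hH
  refine (hH.2.2 t htH).of_dvd_nat (Subgroup.card_dvd_of_le (le_inf H.normalCore_le fun x hx => ?_))
  refine Local.mem_map_conj.2 (H.normalCore_le ?_)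
  have := (Subgroup.normalCore_normal H).conj_mem x hx t⁻¹
  simpa using this

theorem not_mem_of_invol {K : Subgroup G} (hK : Odd (Nat.card K)) {x : G} (hx : x ≠ 1)
    (hx2 : x * x = 1) : x ∉ K := fun h => by
  haveI : Fact (Nat.Prime 2) := ⟨Nat.prime_two⟩
  have ho : orderOf x = 2 := orderOf_eq_prime (by rw [pow_two]; exact hx2) hx
  exact Nat.not_even_iff_odd.2 hK (even_iff_two_dvd.2 (ho ▸ Subgroup.orderOf_dvd_natCard K h))

theorem hasFour_quotient (K : Subgroup G) [K.Normal] (hK : Odd (Nat.card K)) (h : HasFour G) :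
    HasFour (G ⧸ K) := by
  obtain ⟨x, y, hx, hy, hxy, hx2, hy2, hc⟩ := h
  refine ⟨(x : G ⧸ K), (y : G ⧸ K), ?_, ?_, ?_, ?_, ?_, ?_⟩
  · rw [Ne, QuotientGroup.eq_one_iff]; exact not_mem_of_invol hK hx hx2
  · rw [Ne, QuotientGroup.eq_one_iff]; exact not_mem_of_invol hK hy hy2
  · rw [Ne, QuotientGroup.eq]
    refine not_mem_of_invol hK (fun e => hxy (inv_mul_eq_one.1 e)) ?_
    rw [inv_eq_of_mul_eq_one_right hx2, mul_assoc, ← mul_assoc y x y, ← hc, mul_assoc x y y, hy2,
      mul_one, hx2]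
  · rw [← QuotientGroup.mk_mul, hx2, QuotientGroup.mk_one]
  · rw [← QuotientGroup.mk_mul, hy2, QuotientGroup.mk_one]
  · rw [← QuotientGroup.mk_mul, hc, QuotientGroup.mk_mul]

theorem stronglyEmbedded_quotient (hH : Cfsg.IsStronglyEmbedded H) :
    Cfsg.IsStronglyEmbedded (H.map (QuotientGroup.mk' H.normalCore)) ∧
      (H.map (QuotientGroup.mk' H.normalCore)).normalCore = ⊥ := by
  set π := QuotientGroup.mk' H.normalCore
  have hker : π.ker ≤ H := by rw [QuotientGroup.ker_mk']; exact H.normalCore_le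
  have hcm : (H.map π).comap π = H := Subgroup.comap_map_eq_self hker
  obtain ⟨z, hzH, hz1, hz2⟩ := exists_invol_mem hH
  refine ⟨⟨fun e => hH.1 (by rw [← hcm, e, Subgroup.comap_top]), ?_, fun g hg => ?_⟩, ?_⟩
  · haveI : Fact (Nat.Prime 2) := ⟨Nat.prime_two⟩
    have hne : π z ≠ 1 := fun e =>
      not_mem_of_invol (odd_normalCore hH) hz1 hz2 ((QuotientGroup.eq_one_iff z).1 e)
    have ho : orderOf (π z) = 2 := orderOf_eq_prime (by rw [pow_two, ← map_mul, hz2, map_one]) hne
    exact even_iff_two_dvd.2 (ho ▸ Subgroup.orderOf_dvd_natCard _ ⟨z, hzH, rfl⟩)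
  · obtain ⟨x, rfl⟩ := QuotientGroup.mk'_surjective H.normalCore g
    have hx : x ∉ H := fun h => hg ⟨x, h, rfl⟩
    have he : H.map π ⊓ (H.map π).map (MulAut.conj (π x)).toMonoidHom
        = (H ⊓ H.map (MulAut.conj x).toMonoidHom).map π := by
      refine le_antisymm ?_ ?_
      · rintro _ ⟨⟨y, hy, rfl⟩, h2⟩
        refine ⟨y, ⟨hy, Local.mem_map_conj.2 ?_⟩, rfl⟩
        have h3 := Local.mem_map_conj.1 h2
        rw [← map_inv, ← map_mul, ← map_mul] at h3
        rw [← hcm]
        exact h3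
      · rintro _ ⟨y, ⟨hy1, hy2⟩, rfl⟩
        refine ⟨⟨y, hy1, rfl⟩, Local.mem_map_conj.2 ?_⟩
        exact ⟨_, Local.mem_map_conj.1 hy2, by rw [map_mul, map_mul, map_inv]⟩
    rw [he]
    exact (hH.2.2 x hx).of_dvd_nat (Subgroup.card_map_dvd _ _)
  · haveI : ((H.map π).normalCore).Normal := Subgroup.normalCore_normal _
    have h1 : (H.map π).normalCore.comap π ≤ H.normalCore :=
      Subgroup.normal_le_normalCore.2 ((Subgroup.comap_mono (Subgroup.normalCore_le _)).trans hcm.le)
    refine (Subgroup.eq_bot_iff_forall _).2 fun g hg => ?_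
    obtain ⟨x, rfl⟩ := QuotientGroup.mk'_surjective H.normalCore g
    exact (QuotientGroup.eq_one_iff x).2 (h1 hg)

/-- S2903, conditional. -/
theorem solvable (hA : BenderHyp.{u}) (h4 : HasFour G) (hH : Cfsg.IsStronglyEmbedded H) :
    Group.IsSolvable H := by
  set π := QuotientGroup.mk' H.normalCore
  obtain ⟨hH', hc'⟩ := stronglyEmbedded_quotient hH
  obtain ⟨Q, t, htM, hQM, hQn, -, -, -, hsup, hnil, -⟩ :=
    point_facts hA hH' hc' (hasFour_quotient _ (odd_normalCore hH) h4)
  set M := H.map π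
  haveI : Group.IsSolvable ↥(Q.subgroupOf M) := by
    haveI := hnil
    exact Group.isSolvable_of_surjective (f := (Subgroup.subgroupOfEquivOfLe hQM).symm.toMonoidHom)
      (Subgroup.subgroupOfEquivOfLe hQM).symm.surjective
  haveI := hQn
  haveI : Group.IsSolvable (M ⧸ Q.subgroupOf M) := by
    set D := M ⊓ M.map (MulAut.conj t).toMonoidHom
    haveI : Group.IsSolvable D := solvable_of_odd (hH'.2.2 t htM)
    refine Group.isSolvable_of_surjective
      (f := (QuotientGroup.mk' (Q.subgroupOf M)).comp (Subgroup.inclusion (inf_le_left : D ≤ M))) ?_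
    intro q
    obtain ⟨⟨m, hm⟩, rfl⟩ := QuotientGroup.mk'_surjective _ q
    have hDM : D ≤ M := inf_le_left
    have htop : Q.subgroupOf M ⊔ D.subgroupOf M = ⊤ := by
      rw [← Subgroup.subgroupOf_sup hQM hDM, hsup, Subgroup.subgroupOf_self]
    obtain ⟨a, ha, b, hb, hab⟩ := Subgroup.mem_sup_of_normal_left.1 (htop ▸ Subgroup.mem_top (⟨m, hm⟩ : M))
    refine ⟨⟨b, hb⟩, ?_⟩
    rw [← hab]
    change QuotientGroup.mk' _ b = QuotientGroup.mk' _ (a * b)
    have h1 : QuotientGroup.mk' (Q.subgroupOf M) a = 1 := (QuotientGroup.eq_one_iff a).2 ha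
    rw [map_mul, h1, one_mul]
  haveI : Group.IsSolvable M := Group.isSolvable_of_ker_le_range (Q.subgroupOf M).subtype
    (QuotientGroup.mk' (Q.subgroupOf M)) (by rw [QuotientGroup.ker_mk', Subgroup.range_subtype])
  haveI hK : Group.IsSolvable H.normalCore := solvable_of_odd (odd_normalCore hH)
  haveI : Group.IsSolvable ↥(π.subgroupMap H).ker := by
    refine Group.isSolvable_of_isSolvable_injective
      (f := ((Subgroup.inclusion (H := H.normalCore) le_rfl).comp
        (((H.subtype.comp (π.subgroupMap H).ker.subtype)).codRestrict H.normalCore ?_))) ?_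
    · intro x
      have := congrArg Subtype.val x.2
      exact (QuotientGroup.eq_one_iff _).1 this
    · intro x y h
      have h1 := congrArg Subtype.val h
      exact Subtype.ext (Subtype.ext h1)
  exact Group.isSolvable_of_ker_le_range (π.subgroupMap H).ker.subtype (π.subgroupMap H)
    (by rw [Subgroup.range_subtype])

theorem hasFour_of_pRank (h : Cfsg.PRankAtLeast 2 2 G) : HasFour G := by
  obtain ⟨A, hA, hexp, hcard⟩ := h
  haveI : Nontrivial A := Finite.one_lt_card_iff_nontrivial.1 (by omega)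
  obtain ⟨x, hx⟩ := exists_ne (1 : A)
  obtain ⟨y, hy1, hy2⟩ : ∃ y : A, y ≠ 1 ∧ y ≠ x := by
    by_contra h
    push Not at h
    have hsub : (Set.univ : Set A) ⊆ {1, x} := fun y _ => by
      rcases eq_or_ne y 1 with e | e
      · exact Or.inl e
      · exact Or.inr (h y e)
    have := Set.ncard_le_ncard hsub (Set.toFinite _)
    rw [Set.ncard_univ] at this
    have h2 : ({1, x} : Set A).ncard ≤ 2 :=
      (Set.ncard_insert_le _ _).trans (by rw [Set.ncard_singleton])
    omega
  exact ⟨x, y, fun e => hx (Subtype.ext e), fun e => hy1 (Subtype.ext e),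
    fun e => hy2 (Subtype.ext e.symm), by rw [← pow_two]; exact hexp _ x.2,
    by rw [← pow_two]; exact hexp _ y.2, congrArg Subtype.val (hA.is_comm.comm x y)⟩

/-- In a group of 2-rank at least two the normal core of a strongly embedded subgroup is the odd core. -/
theorem normalCore_eq (hA : BenderHyp.{u}) (h4 : HasFour G) (hH : Cfsg.IsStronglyEmbedded H) :
    H.normalCore = Cfsg.pPrimeCore 2 G := by
  haveI : Fact (Nat.Prime 2) := ⟨Nat.prime_two⟩
  refine le_antisymm (le_pPrimeCore (coprime_two_of_odd (odd_normalCore hH))) ?_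
  obtain ⟨hH', hc'⟩ := stronglyEmbedded_quotient hH
  have h4' := hasFour_quotient _ (odd_normalCore hH) h4
  obtain ⟨Q, hQM, hQn, htr, hreg⟩ := hA _ _ hH' hc' h4'
  obtain ⟨t, -, hS⟩ := setup hH' hQM hQn htr hreg
  have hO := Cfsg.Agent.S1120.result hS h4'
  rw [stabilizer_one, hc'] at hO
  haveI : ((Cfsg.pPrimeCore 2 G).map (QuotientGroup.mk' H.normalCore)).Normal :=
    Subgroup.Normal.map inferInstance _ (QuotientGroup.mk'_surjective _)
  have hle : (Cfsg.pPrimeCore 2 G).map (QuotientGroup.mk' H.normalCore) ≤ Cfsg.pPrimeCore 2 (G ⧸ H.normalCore) := by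
    refine le_pPrimeCore (coprime_two_of_odd (Odd.of_dvd_nat ?_ (Subgroup.card_map_dvd _ _)))
    exact Nat.not_even_iff_odd.1 fun e => CfsgLib.not_dvd_card_pPrimeCore Nat.prime_two e.two_dvd
  rw [hO] at hle
  intro x hx
  exact (QuotientGroup.eq_one_iff x).1 (Subgroup.mem_bot.1 (hle ⟨x, hx, rfl⟩))

end CfsgLib.Bender
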