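import Cfsg.Prelude.Def_Amalgam
import Cfsg.Agent.Lib.ZJ.Theorem
import Cfsg.Agent.Lib.PSolvable
import Cfsg.Agent.Lib.Quadratic.Stable
import Cfsg.Agent.Lib.StrongFusion.Stable
import Cfsg.Agent.Lib.PLocal.Constrained
import Cfsg.Agent.Lib.OddOrder.FeitThompson

/-!
Glauberman's ZJ theorem for solvable groups with abelian Sylow 2-subgroups, in the forms used for Bender's theorem.

Blueprint: `blueprint/bender/A6.md` (P3, Q2, Q5).
-/

set_option autoImplicit false
set_option linter.unusedSectionVars false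
set_option linter.style.haveILetI false

namespace CfsgLib.Bender.Ext

open Subgroup Cfsg
open scoped Pointwise

universe u

variable {G : Type u} [Group G]

/-- Every 2-subgroup is commutative. -/
def AbTwo (G : Type u) [Group G] : Prop :=
  ∀ P : Subgroup G, IsPGroup 2 P → ∀ x ∈ P, ∀ y ∈ P, x * y = y * x

theorem abTwo_of_odd [Finite G] (h : Odd (Nat.card G)) : AbTwo G := fun P hP x hx y hy => by
  haveI := Fact.mk Nat.prime_two
  obtain ⟨k, hk⟩ := hP.exists_card_eq
  have hk0 : k = 0 := by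
    by_contra hne
    exact h.not_two_dvd_nat ((hk ▸ dvd_pow_self 2 hne).trans (card_subgroup_dvd_card P))
  have hb : P = ⊥ := Subgroup.eq_bot_of_card_eq P (by rw [hk, hk0, pow_zero])
  rw [hb, Subgroup.mem_bot] at hx hy
  rw [hx, hy]

theorem AbTwo.subgroup (h : AbTwo G) (K : Subgroup G) : AbTwo K := fun P hP x hx y hy =>
  Subtype.ext (h (P.map K.subtype) (hP.map _) x ⟨x, hx, rfl⟩ y ⟨y, hy, rfl⟩)

theorem AbTwo.of_surjective [Finite G] (h : AbTwo G) {H : Type*} [Group H] [Finite H] {f : G →* H}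
    (hf : Function.Surjective f) : ∀ P : Subgroup H, IsPGroup 2 P → ∀ x ∈ P, ∀ y ∈ P, x * y = y * x := by
  haveI := Fact.mk Nat.prime_two
  intro P hP x hx y hy
  obtain ⟨S', hS'⟩ := hP.exists_le_sylow
  obtain ⟨S⟩ := (inferInstance : Nonempty (Sylow 2 G))
  obtain ⟨c, hc⟩ := MulAction.exists_smul_eq H (S.mapSurjective hf) S'
  have hmem : ∀ z ∈ P, ∃ s ∈ (S : Subgroup G), c * f s * c⁻¹ = z := by
    intro z hz
    have h1 : z ∈ ((c • S.mapSurjective hf : Sylow 2 H) : Subgroup H) := by
      rw [hc]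
      exact hS' hz
    rw [Sylow.coe_subgroup_smul] at h1
    obtain ⟨w, ⟨s, hs, rfl⟩, hw⟩ := h1
    exact ⟨s, hs, by simpa [MulAut.smul_def] using hw⟩
  obtain ⟨s, hs, rfl⟩ := hmem x hx
  obtain ⟨s', hs', rfl⟩ := hmem y hy
  have e := congrArg f (h S S.isPGroup' s hs s' hs')
  rw [map_mul, map_mul] at e
  calc c * f s * c⁻¹ * (c * f s' * c⁻¹) = c * (f s * f s') * c⁻¹ := by group
    _ = c * f s' * c⁻¹ * (c * f s * c⁻¹) := by rw [e]; group

theorem abTwo_quotient [Finite G] (h : AbTwo G) (N : Subgroup G) [N.Normal] : AbTwo (G ⧸ N) :=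
  h.of_surjective (QuotientGroup.mk'_surjective N)

/-- Abelian Sylow 2-subgroups lift through a normal subgroup of odd order. -/
theorem abTwo_of_quotient [Finite G] (N : Subgroup G) [N.Normal] (hN : Odd (Nat.card N)) (h : AbTwo (G ⧸ N)) :
    AbTwo G := by
  haveI := Fact.mk Nat.prime_two
  intro P hP x hx y hy
  have e := h (P.map (QuotientGroup.mk' N)) (hP.map _) _ ⟨x, hx, rfl⟩ _ ⟨y, hy, rfl⟩
  rw [← map_mul, ← map_mul, QuotientGroup.mk'_eq_mk'] at e
  obtain ⟨z, hz, hz'⟩ := e
  have hzP : z ∈ P := by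
    have : z = (x * y)⁻¹ * (y * x) := by rw [← hz']; group
    rw [this]
    exact P.mul_mem (P.inv_mem (P.mul_mem hx hy)) (P.mul_mem hy hx)
  have hbot : P ⊓ N = ⊥ := by
    refine Subgroup.inf_eq_bot_of_coprime ?_
    obtain ⟨k, hk⟩ := hP.exists_card_eq
    rw [hk]
    exact Nat.Coprime.pow_left _ (Nat.prime_two.coprime_iff_not_dvd.mpr hN.not_two_dvd_nat)
  have h1 : z ∈ P ⊓ N := ⟨hzP, hz⟩
  rw [hbot, Subgroup.mem_bot] at h1
  rw [h1, mul_one] at hz'
  exact hz'

/-- The special linear group in dimension two over an odd prime field has a non-commutative 2-subgroup. -/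
theorem not_abTwo_sl2 {q : ℕ} [Fact q.Prime] (hq : q ≠ 2) :
    ¬ AbTwo (Matrix.SpecialLinearGroup (Fin 2) (ZMod q)) := by
  intro h
  haveI := Fact.mk Nat.prime_two
  obtain ⟨x, y, hxy⟩ := ZMod.sq_add_sq q (-1)
  let a : Matrix.SpecialLinearGroup (Fin 2) (ZMod q) := ⟨!![0, 1; -1, 0], by simp [Matrix.det_fin_two]⟩
  let b : Matrix.SpecialLinearGroup (Fin 2) (ZMod q) := ⟨!![x, y; y, -x], by
    rw [Matrix.det_fin_two_of]
    linear_combination -hxy⟩
  have ea : (a : Matrix (Fin 2) (Fin 2) (ZMod q)) = !![0, 1; -1, 0] := rfl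
  have eb : (b : Matrix (Fin 2) (Fin 2) (ZMod q)) = !![x, y; y, -x] := rfl
  have ea2 : ((a * a : Matrix.SpecialLinearGroup (Fin 2) (ZMod q)) : Matrix (Fin 2) (Fin 2) (ZMod q)) =
      !![-1, 0; 0, -1] := by
    rw [Matrix.SpecialLinearGroup.coe_mul, ea, Matrix.mul_fin_two]
    simp
  have eb2 : ((b * b : Matrix.SpecialLinearGroup (Fin 2) (ZMod q)) : Matrix (Fin 2) (Fin 2) (ZMod q)) =
      !![-1, 0; 0, -1] := by
    rw [Matrix.SpecialLinearGroup.coe_mul, eb, Matrix.mul_fin_two]
    ext i j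
    fin_cases i <;> fin_cases j <;> simp
    · linear_combination hxy
    · ring
    · ring
    · linear_combination hxy
  have ha4 : a ^ 4 = 1 := by
    apply Subtype.ext
    rw [show a ^ 4 = a * a * (a * a) by simp [pow_succ, mul_assoc], Matrix.SpecialLinearGroup.coe_mul, ea2,
      Matrix.mul_fin_two, Matrix.SpecialLinearGroup.coe_one, Matrix.one_fin_two]
    simp
  have hb4 : b ^ 4 = 1 := by
    apply Subtype.ext
    rw [show b ^ 4 = b * b * (b * b) by simp [pow_succ, mul_assoc], Matrix.SpecialLinearGroup.coe_mul, eb2,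
      Matrix.mul_fin_two, Matrix.SpecialLinearGroup.coe_one, Matrix.one_fin_two]
    simp
  have hbab : b * a * b = a := by
    apply Subtype.ext
    rw [Matrix.SpecialLinearGroup.coe_mul, Matrix.SpecialLinearGroup.coe_mul, ea, eb, Matrix.mul_fin_two,
      Matrix.mul_fin_two]
    ext i j
    fin_cases i <;> fin_cases j <;> simp
    · ring
    · linear_combination -hxy
    · linear_combination hxy
    · ring
  have hab : a * b * a⁻¹ = b⁻¹ := by
    calc a * b * a⁻¹ = b⁻¹ * (b * a * b) * a⁻¹ := by group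
      _ = b⁻¹ := by rw [hbab, mul_inv_cancel_right]
  have hpa : IsPGroup 2 (zpowers a) := by
    intro z
    obtain ⟨i, hi⟩ := z.2
    refine ⟨2, Subtype.ext ?_⟩
    show (z : Matrix.SpecialLinearGroup (Fin 2) (ZMod q)) ^ 4 = 1
    rw [← hi, ← zpow_natCast, ← zpow_mul, mul_comm, zpow_mul, zpow_natCast, ha4, one_zpow]
  have hpb : IsPGroup 2 (zpowers b) := by
    intro z
    obtain ⟨i, hi⟩ := z.2
    refine ⟨2, Subtype.ext ?_⟩
    show (z : Matrix.SpecialLinearGroup (Fin 2) (ZMod q)) ^ 4 = 1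
    rw [← hi, ← zpow_natCast, ← zpow_mul, mul_comm, zpow_mul, zpow_natCast, hb4, one_zpow]
  have hn : zpowers a ≤ normalizer (zpowers b : Set (Matrix.SpecialLinearGroup (Fin 2) (ZMod q))) := by
    rw [Subgroup.zpowers_le, Subgroup.mem_normalizer_iff_map_conj_eq, MonoidHom.map_zpowers]
    simp [hab]
  have hP : IsPGroup 2 ↥(zpowers a ⊔ zpowers b) := hpa.to_sup_of_normal_right' hpb hn
  have hc := congrArg (fun M : Matrix.SpecialLinearGroup (Fin 2) (ZMod q) => M.1)
    (h _ hP a (le_sup_left (α := Subgroup _) (mem_zpowers a)) b (le_sup_right (α := Subgroup _) (mem_zpowers b)))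
  change ((a * b : Matrix.SpecialLinearGroup (Fin 2) (ZMod q)) : Matrix (Fin 2) (Fin 2) (ZMod q)) =
    ((b * a : Matrix.SpecialLinearGroup (Fin 2) (ZMod q)) : Matrix (Fin 2) (Fin 2) (ZMod q)) at hc
  rw [Matrix.SpecialLinearGroup.coe_mul, Matrix.SpecialLinearGroup.coe_mul, ea, eb, Matrix.mul_fin_two,
    Matrix.mul_fin_two] at hc
  have h00 := congrFun (congrFun hc 0) 0
  have h01 := congrFun (congrFun hc 0) 1
  simp at h00 h01
  have h2 : (2 : ZMod q) ≠ 0 := by
    intro e
    have e' : ((2 : ℕ) : ZMod q) = 0 := by exact_mod_cast e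
    rw [ZMod.natCast_eq_zero_iff] at e'
    exact hq ((Nat.prime_dvd_prime_iff_eq Fact.out Nat.prime_two).mp e')
  have hy : y = 0 := by
    refine (mul_eq_zero.mp (?_ : (2 : ZMod q) * y = 0)).resolve_left h2
    linear_combination h00
  have hx : x = 0 := by
    refine (mul_eq_zero.mp (?_ : (2 : ZMod q) * x = 0)).resolve_left h2
    grind
  rw [hx, hy] at hxy
  simp at hxy

variable [Finite G] {q : ℕ} [Fact q.Prime]

/-- Stability at an odd prime. -/
theorem quadStable (hab : AbTwo G) (hq : q ≠ 2) : ZJ.QuadStable q G := by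
  refine CfsgLib.Quadratic.quadStable_of_isNormalizerPStable (fun V hV a ha hqa => ?_)
  by_contra hout
  obtain ⟨K, -, f, hf⟩ := CfsgLib.Quadratic.exists_sl2_section hq hV le_rfl ha
    (CfsgLib.Quadratic.quad_pointwise hqa) hout
  exact not_abTwo_sl2 hq ((hab.subgroup K).of_surjective hf)

/-- `G = O_{q'}(G) N(Z(J(S)))`. -/
theorem zj_factor [Group.IsSolvable G] (hab : AbTwo G) (hq : q ≠ 2) (S : Sylow q G) :
    pPrimeCore q G ⊔ normalizer (ZJ.zj 0 (S : Subgroup G) : Set G) = ⊤ :=
  CfsgLib.StrongFusion.sup_normalizer_zj_of_closed hq (Or.inl rfl)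
    (CfsgLib.PLocal.isPConstrained_of_quotient
      (centralizer_pCore_le Fact.out (pPrimeCore_quotient_eq_bot q)))
    (quadStable (abTwo_quotient hab _) hq) S ⟨le_rfl, fun _ _ _ hg => hg⟩

/-- With a central `q'`-core the subgroup `Z(J(S))` is normal. -/
theorem zj_normal_of_central [Group.IsSolvable G] (hab : AbTwo G) (hq : q ≠ 2)
    (hc : pPrimeCore q G ≤ center G) (S : Sylow q G) : (ZJ.zj 0 (S : Subgroup G)).Normal := by
  rw [← normalizer_eq_top_iff, eq_top_iff, ← zj_factor hab hq S]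
  refine sup_le (fun z hz => ?_) le_rfl
  rw [Subgroup.mem_normalizer_iff]
  intro x
  rw [← Subgroup.mem_center_iff.mp (hc hz) x, mul_inv_cancel_right]

theorem conj_smul_eq_of_mem_normalizer {H : Subgroup G} {g : G} (hg : g ∈ normalizer (H : Set G)) :
    MulAut.conj g • H = H := by
  ext x
  rw [mem_conj_smul_iff]
  have h2 := Subgroup.mem_normalizer_iff.mp ((normalizer (H : Set G)).inv_mem hg) x
  simpa using h2.symm

/-- A Sylow subgroup of a subgroup, as a subgroup of the whole group. -/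
structure IsSylowOf (q : ℕ) (S C : Subgroup G) : Prop where
  le : S ≤ C
  isPGroup : IsPGroup q S
  not_dvd : ¬ q ∣ S.relIndex C

theorem IsSylowOf.sylow {S C : Subgroup G} (h : IsSylowOf q S C) :
    ∃ T : Sylow q C, (T : Subgroup C).map C.subtype = S := by
  refine ⟨(h.isPGroup.of_equiv (Subgroup.subgroupOfEquivOfLe h.le).symm).toSylow h.not_dvd, ?_⟩
  exact map_subgroupOf_eq_of_le h.le

theorem isSylowOf_map {C : Subgroup G} (T : Sylow q C) : IsSylowOf q ((T : Subgroup C).map C.subtype) C where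
  le := map_subtype_le _
  isPGroup := T.isPGroup'.map _
  not_dvd := by
    rw [Subgroup.relIndex, Subgroup.subgroupOf, comap_map_eq_self_of_injective C.subtype_injective]
    exact T.not_dvd_index

theorem exists_isSylowOf (q : ℕ) [Fact q.Prime] (C : Subgroup G) : ∃ S, IsSylowOf q S C :=
  ⟨_, isSylowOf_map (default : Sylow q C)⟩

/-- In a subgroup with central `q'`-core, `Z(J)` of a Sylow subgroup is invariant under the whole normaliser. -/
theorem zj_normalized {C S : Subgroup G} [Group.IsSolvable C] (hab : AbTwo C) (hq : q ≠ 2)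
    (hc : pPrimeCore q C ≤ center C) (hS : IsSylowOf q S C) :
    normalizer (C : Set G) ≤ normalizer (ZJ.zj 0 S : Set G) := by
  obtain ⟨T, rfl⟩ := hS.sylow
  have hn := zj_normal_of_central hab hq hc T
  rw [ZJ.zj_map 0 C.subtype_injective]
  intro g hg
  -- conjugation by `g` gives another Sylow subgroup of `C`
  let φ : MulAut C :=
    { toFun := fun c => ⟨g * c * g⁻¹, (Subgroup.mem_normalizer_iff.mp hg c).mp c.2⟩
      invFun := fun c => ⟨g⁻¹ * c * g, by
        simpa using (Subgroup.mem_normalizer_iff.mp ((normalizer (C : Set G)).inv_mem hg) c).mp c.2⟩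
      left_inv := fun c => Subtype.ext (by simp [mul_assoc])
      right_inv := fun c => Subtype.ext (by simp [mul_assoc])
      map_mul' := fun c d => Subtype.ext (by simp [mul_assoc]) }
  obtain ⟨c, hc'⟩ := MulAction.exists_smul_eq C T (T.mapSurjective (f := φ.toMonoidHom) φ.surjective)
  have h1 : MulAut.conj c • (T : Subgroup C) = (T : Subgroup C).map φ.toMonoidHom := by
    rw [← Sylow.coe_subgroup_smul, hc']
    rfl
  have h2 : (ZJ.zj 0 (T : Subgroup C)).map φ.toMonoidHom = ZJ.zj 0 (T : Subgroup C) := by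
    rw [← ZJ.zj_map 0 φ.injective, ← h1, ZJ.zj_conj, conj_smul_eq_of_mem_normalizer]
    rw [normalizer_eq_top_iff.mpr hn]
    trivial
  rw [Subgroup.mem_normalizer_iff_map_conj_eq, Subgroup.map_map]
  have h3 : (↑(MulAut.conj g) : G →* G).comp C.subtype = C.subtype.comp φ.toMonoidHom := by
    ext c
    rfl
  rw [h3, ← Subgroup.map_map, h2]

/-- The intersection of the centralisers of `O_r(K)`, `r` a prime other than `q`. -/
def centOther (q : ℕ) (K : Subgroup G) : Subgroup G :=
  ⨅ (r : ℕ) (_ : r.Prime) (_ : r ≠ q), centralizer (pCoreOf r K : Set G)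

theorem mem_centOther {K : Subgroup G} {x : G} :
    x ∈ centOther q K ↔ ∀ r : ℕ, r.Prime → r ≠ q → x ∈ centralizer (pCoreOf r K : Set G) := by
  simp [centOther, Subgroup.mem_iInf]

theorem pCoreOf_le (r : ℕ) (K : Subgroup G) : pCoreOf r K ≤ K := map_subtype_le _

theorem normalizer_le_centralizer {H : Subgroup G} {g : G} (hg : g ∈ normalizer (H : Set G)) :
    g ∈ normalizer (centralizer (H : Set G) : Set G) := by
  refine Subgroup.mem_normalizer_iff.mpr fun x => ⟨fun hx o ho => ?_, fun hx o ho => ?_⟩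
  · have ho' : g⁻¹ * o * g ∈ H := by simpa using (Subgroup.mem_normalizer_iff.mp (inv_mem hg) o).mp ho
    calc o * (g * x * g⁻¹) = g * (g⁻¹ * o * g * x) * g⁻¹ := by group
      _ = g * (x * (g⁻¹ * o * g)) * g⁻¹ := by rw [hx _ ho']
      _ = g * x * g⁻¹ * o := by group
  · calc o * x = g⁻¹ * (g * o * g⁻¹ * (g * x * g⁻¹)) * g := by group
      _ = g⁻¹ * (g * x * g⁻¹ * (g * o * g⁻¹)) * g := by
          rw [hx _ ((Subgroup.mem_normalizer_iff.mp hg o).mp ho)]
      _ = x * o := by group

theorem isPGroup_pCoreOf (r : ℕ) (K : Subgroup G) : IsPGroup r (pCoreOf r K) := (isPGroup_pCore r).map _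

theorem normalizer_le_pCoreOf (r : ℕ) (K : Subgroup G) :
    normalizer (K : Set G) ≤ normalizer (pCoreOf r K : Set G) := by
  intro g hg
  let φ : MulAut K :=
    { toFun := fun c => ⟨g * c * g⁻¹, (Subgroup.mem_normalizer_iff.mp hg c).mp c.2⟩
      invFun := fun c => ⟨g⁻¹ * c * g, by
        simpa using (Subgroup.mem_normalizer_iff.mp ((normalizer (K : Set G)).inv_mem hg) c).mp c.2⟩
      left_inv := fun c => Subtype.ext (by simp [mul_assoc])
      right_inv := fun c => Subtype.ext (by simp [mul_assoc])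
      map_mul' := fun c d => Subtype.ext (by simp [mul_assoc]) }
  rw [Subgroup.mem_normalizer_iff_map_conj_eq, pCoreOf, Subgroup.map_map]
  have h3 : (↑(MulAut.conj g) : G →* G).comp K.subtype = K.subtype.comp φ.toMonoidHom := by
    ext c
    rfl
  rw [h3, ← Subgroup.map_map, pCore_map_equiv]

theorem commute_of_inf_eq_bot {A B : Subgroup G} (hAB : A ≤ normalizer (B : Set G))
    (hBA : B ≤ normalizer (A : Set G)) (h : A ⊓ B = ⊥) : A ≤ centralizer (B : Set G) := by
  intro a ha b hb
  have h1 : a * b * a⁻¹ * b⁻¹ ∈ A ⊓ B := by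
    refine ⟨?_, B.mul_mem ((Subgroup.mem_normalizer_iff.mp (hAB ha) b).mp hb) (B.inv_mem hb)⟩
    rw [mul_assoc, mul_assoc]
    refine A.mul_mem ha ?_
    have := (Subgroup.mem_normalizer_iff.mp (hBA hb) a⁻¹).mp (A.inv_mem ha)
    simpa [mul_assoc] using this
  rw [h, Subgroup.mem_bot, mul_inv_eq_one, mul_inv_eq_iff_eq_mul] at h1
  exact h1.symm

/-- A `q'`-subgroup normalised by `C = C_M(F_{q'}(K))` inside it is centralised by it. -/
theorem central_of_coprime {K M W : Subgroup G} [Group.IsSolvable K] (hKM : K ≤ M)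
    (hMK : M ≤ normalizer (K : Set G)) (hK : M ⊓ centralizer (pCoreOf q K : Set G) ⊓ centOther q K ≤ K)
    (hW : W ≤ M ⊓ centOther q K) (hWn : M ⊓ centOther q K ≤ normalizer (W : Set G))
    (hWq : (Nat.card W).Coprime q) : W ≤ centralizer ((M ⊓ centOther q K : Subgroup G) : Set G) := by
  set A := pCoreOf q K with hA
  have hqp : q.Prime := Fact.out
  obtain ⟨k, hk⟩ := (isPGroup_pCoreOf q K).exists_card_eq
  have hAW : A ⊓ W = ⊥ := Subgroup.inf_eq_bot_of_coprime (by
    show (Nat.card (pCoreOf q K)).Coprime (Nat.card W)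
    rw [hk]
    exact (hWq.pow_right k).symm)
  have hAc : A ≤ M ⊓ centOther q K := by
    refine le_inf ((pCoreOf_le q K).trans hKM) fun x hx => mem_centOther.2 fun r hr hrq => ?_
    refine commute_of_inf_eq_bot ((pCoreOf_le q K).trans (le_normalizer.trans (normalizer_le_pCoreOf r K)))
      ((pCoreOf_le r K).trans (le_normalizer.trans (normalizer_le_pCoreOf q K))) ?_ hx
    haveI := Fact.mk hr
    obtain ⟨j, hj⟩ := (isPGroup_pCoreOf r K).exists_card_eq
    refine Subgroup.inf_eq_bot_of_coprime ?_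
    show (Nat.card (pCoreOf q K)).Coprime (Nat.card (pCoreOf r K))
    rw [hk, hj]
    exact ((Nat.coprime_primes hqp hr).mpr (Ne.symm hrq)).pow k j
  have hWN : W ≤ normalizer (A : Set G) := (hW.trans inf_le_left).trans (hMK.trans (normalizer_le_pCoreOf q K))
  have hWA : W ≤ centralizer (A : Set G) :=
    commute_of_inf_eq_bot hWN (hAc.trans hWn) (by rw [inf_comm]; exact hAW)
  intro w hw c hc
  have hwK : w ∈ K := hK ⟨⟨(hW hw).1, hWA hw⟩, (hW hw).2⟩
  have hwF : (⟨w, hwK⟩ : K) ∈ fittingSubgroup K := by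
    refine centralizer_fitting_le ?_
    refine Subgroup.mem_centralizer_iff.mpr fun f hf => ?_
    have hsub : fittingSubgroup K ≤ (centralizer ({w} : Set G)).comap K.subtype := by
      rw [fittingSubgroup_eq_iSup_pCore]
      refine iSup_le fun r x hx => ?_
      rw [Subgroup.mem_comap, Subgroup.mem_centralizer_singleton_iff]
      rcases eq_or_ne (r : ℕ) q with e | e
      · refine (hWA hw x ?_)
        rw [hA, ← e]
        exact ⟨x, hx, rfl⟩
      · exact (mem_centOther.1 (hW hw).2 r r.2 e) x ⟨x, hx, rfl⟩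
    exact Subtype.ext (Subgroup.mem_centralizer_singleton_iff.mp (hsub hf))
  -- split off the `q`-part of the Fitting subgroup
  let B : Subgroup K := ⨆ (r : Nat.Primes) (_ : (r : ℕ) ≠ q), pCore (r : ℕ) K
  have hsplit : fittingSubgroup K ≤ pCore q K ⊔ B := by
    rw [fittingSubgroup_eq_iSup_pCore]
    refine iSup_le fun r => ?_
    rcases eq_or_ne (r : ℕ) q with e | e
    · exact le_sup_of_le_left (by rw [e])
    · exact le_sup_of_le_right (le_iSup₂ (f := fun (r : Nat.Primes) (_ : (r : ℕ) ≠ q) => pCore (r : ℕ) K) r e)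
  haveI : (pCore q K).Normal := by
    rw [pCore]
    exact Subgroup.sSup_normal _ fun _ h => h.1
  obtain ⟨x, hx, y, hy, hxy⟩ := Subgroup.mem_sup_of_normal_left.mp (hsplit hwF)
  have hBc : B ≤ (centralizer ({c} : Set G)).comap K.subtype := by
    refine iSup₂_le fun r e z hz => ?_
    rw [Subgroup.mem_comap, Subgroup.mem_centralizer_singleton_iff]
    exact (mem_centOther.1 hc.2 r r.2 e) z ⟨z, hz, rfl⟩
  have hyc : (y : G) * c = c * y := Subgroup.mem_centralizer_singleton_iff.mp (hBc hy)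
  have hxA : (x : G) ∈ A := ⟨x, hx, rfl⟩
  have hwxy : w = (x : G) * y := by
    rw [← Subgroup.coe_mul, hxy]
  have hcA : c * (x : G) * c⁻¹ ∈ A :=
    (Subgroup.mem_normalizer_iff.mp (normalizer_le_pCoreOf q K (hMK hc.1)) x).mp hxA
  have h1 : c * w * c⁻¹ * w⁻¹ ∈ A ⊓ W := by
    refine ⟨?_, W.mul_mem ((Subgroup.mem_normalizer_iff.mp (hWn hc) w).mp hw) (W.inv_mem hw)⟩
    have : c * w * c⁻¹ * w⁻¹ = (c * (x : G) * c⁻¹) * (x : G)⁻¹ := by
      have e : c * (y : G) * c⁻¹ = y := by rw [← hyc, mul_inv_cancel_right]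
      calc c * w * c⁻¹ * w⁻¹ = (c * (x : G) * c⁻¹) * (c * (y : G) * c⁻¹) * (y : G)⁻¹ * (x : G)⁻¹ := by
            rw [hwxy]; group
        _ = _ := by rw [e]; group
    rw [this]
    exact A.mul_mem hcA (A.inv_mem hxA)
  rw [hAW, Subgroup.mem_bot, mul_inv_eq_one, mul_inv_eq_iff_eq_mul] at h1
  exact h1

/-- `Z(J)` of a Sylow `q`-subgroup of `C_M(F_{q'}(K))` is normalised by `M`, and by every element normalising
that centraliser. -/
theorem zj_cent_fitting {K M S : Subgroup G} [Group.IsSolvable K] [Group.IsSolvable M] (hab : AbTwo M)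
    (hq : q ≠ 2) (hKM : K ≤ M) (hMK : M ≤ normalizer (K : Set G))
    (hK : M ⊓ centralizer (pCoreOf q K : Set G) ⊓ centOther q K ≤ K)
    (hS : IsSylowOf q S (M ⊓ centOther q K)) :
    M ≤ normalizer (ZJ.zj 0 S : Set G) ∧
      normalizer ((M ⊓ centOther q K : Subgroup G) : Set G) ≤ normalizer (ZJ.zj 0 S : Set G) := by
  set C := M ⊓ centOther q K with hC
  haveI : Group.IsSolvable C :=
    solvable_of_solvable_injective (Subgroup.inclusion_injective (inf_le_left : C ≤ M))
  have habC : AbTwo C := fun P hP x hx y hy => by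
    have := hab (P.map (Subgroup.inclusion (inf_le_left : C ≤ M))) (hP.map _) _ ⟨x, hx, rfl⟩ _ ⟨y, hy, rfl⟩
    rw [← map_mul, ← map_mul] at this
    exact Subgroup.inclusion_injective _ this
  have hc : pPrimeCore q C ≤ center C := by
    intro x hx
    set W := (pPrimeCore q C).map C.subtype with hW
    haveI : (pPrimeCore q C).Normal := by
      rw [pPrimeCore]
      exact Subgroup.sSup_normal _ fun _ h => h.1
    have hWn : C ≤ normalizer (W : Set G) := fun g hg =>
      le_normalizer_map C.subtype ⟨⟨g, hg⟩, (normalizer_eq_top (H := pPrimeCore q C)).ge (mem_top _), rfl⟩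
    have hWq : (Nat.card W).Coprime q := by
      rw [hW, Subgroup.card_map_of_injective C.subtype_injective]
      exact card_pPrimeCore_coprime q
    have h := central_of_coprime hKM hMK hK (map_subtype_le _) hWn hWq ⟨x, hx, rfl⟩
    exact Subgroup.mem_center_iff.mpr fun y => Subtype.ext (h y y.2)
  have h2 := zj_normalized habC hq hc hS
  refine ⟨fun g hg => h2 ?_, h2⟩
  have h3 : g ∈ normalizer (centOther q K : Set G) := by
    rw [Subgroup.mem_normalizer_iff]
    intro x
    simp only [mem_centOther]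
    refine forall_congr' fun r => imp_congr_right fun hr => imp_congr_right fun _ => ?_
    exact Subgroup.mem_normalizer_iff.mp (normalizer_le_centralizer (normalizer_le_pCoreOf r K (hMK hg))) x
  rw [Subgroup.mem_normalizer_iff]
  intro x
  rw [hC, Subgroup.mem_inf, Subgroup.mem_inf, ← Subgroup.mem_normalizer_iff.mp h3 x,
    ← Subgroup.mem_normalizer_iff.mp (le_normalizer hg) x]

/-- The normaliser of a subgroup of odd order normalises its centraliser of `F_{q'}`. -/
theorem normalizer_le_cent_other (M : Subgroup G) :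
    normalizer (M : Set G) ≤ normalizer ((M ⊓ centOther q M : Subgroup G) : Set G) := by
  intro g hg
  have hc : g ∈ normalizer (centOther q M : Set G) := by
    rw [Subgroup.mem_normalizer_iff]
    intro x
    simp only [mem_centOther]
    refine forall_congr' fun r => imp_congr_right fun hr => imp_congr_right fun _ => ?_
    exact Subgroup.mem_normalizer_iff.mp (normalizer_le_centralizer (normalizer_le_pCoreOf r M hg)) x
  refine Subgroup.mem_normalizer_iff.mpr fun x => ?_
  rw [Subgroup.mem_inf, Subgroup.mem_inf, ← Subgroup.mem_normalizer_iff.mp hc x,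
    ← Subgroup.mem_normalizer_iff.mp hg x]

/-- The form used for the two-point stabilisers: the subgroup `Z(J(S))` for a Sylow `q`-subgroup `S` of
`C_M(F_{q'}(M))` is normalised by all of `N(M)`. -/
theorem zj_of_odd {M S : Subgroup G} (hodd : Odd (Nat.card M)) (hq : q ≠ 2)
    (hS : IsSylowOf q S (M ⊓ centOther q M)) :
    normalizer (M : Set G) ≤ normalizer (ZJ.zj 0 S : Set G) := by
  haveI : Group.IsSolvable M := CfsgLib.OddOrder.feitThompson hodd
  exact (normalizer_le_cent_other M).trans (zj_cent_fitting (abTwo_of_odd hodd) hq le_rfl le_normalizer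
    (inf_le_left.trans inf_le_left) hS).2

/-- The subgroup does not depend on the Sylow subgroup. -/
theorem zj_of_odd_unique {M S T : Subgroup G} (hodd : Odd (Nat.card M)) (hq : q ≠ 2)
    (hS : IsSylowOf q S (M ⊓ centOther q M)) (hT : IsSylowOf q T (M ⊓ centOther q M)) :
    ZJ.zj 0 T = ZJ.zj 0 S := by
  obtain ⟨S', hS'⟩ := hS.sylow
  obtain ⟨T', hT'⟩ := hT.sylow
  obtain ⟨c, hc⟩ := MulAction.exists_smul_eq (M ⊓ centOther q M : Subgroup G) S' T'
  have e : T = MulAut.conj (c : G) • S := by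
    rw [← hS', ← hT', ← hc, Sylow.coe_subgroup_smul]
    ext x
    rw [mem_conj_smul_iff, Subgroup.mem_map, Subgroup.mem_map]
    constructor
    · rintro ⟨y, hy, rfl⟩
      exact ⟨c⁻¹ * y * c, mem_conj_smul_iff.mp hy, rfl⟩
    · rintro ⟨y, hy, he⟩
      refine ⟨c * y * c⁻¹, mem_conj_smul_iff.mpr (by simpa [mul_assoc] using hy), ?_⟩
      show (c : G) * y * (c : G)⁻¹ = x
      rw [show ((y : G)) = (c : G)⁻¹ * x * c from he]
      group
  rw [e, ZJ.zj_conj, conj_smul_eq_of_mem_normalizer]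
  exact zj_of_odd hodd hq hS (le_normalizer c.2.1)

end CfsgLib.Bender.Ext
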