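import Cfsg.Agent.Lib.SuzukiRankOne.Main
import Cfsg.Agent.Lib.SuzukiRankOne.FixField
import Cfsg.Agent.Lib.SuzukiRankOne.WTrivial
import Cfsg.Agent.Lib.CoprimeGen
import Cfsg.Agent.Lib.Bender.TwoClosed.Basic

/-!
Two-point stabilisers, circles and fixed points in split rank one groups of characteristic two.

Blueprint: `blueprint/bender/A6.md` (case 2).
-/

set_option autoImplicit false
set_option linter.unusedSectionVars false
set_option linter.style.haveILetI false

namespace CfsgLib.Bender.Ext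

open MulAction Cfsg CfsgLib.RankOne CfsgLib.SuzukiRankOne

universe u v

variable {G : Type u} {Ω : Type v} [Group G] [Finite G] [MulAction G Ω] [FaithfulSMul G Ω] {a : Ω} {t : G}
  {Q : Subgroup G} (hS : IsRankOneSetup G Ω a t Q)

/-- The circle through `a` and `t • a`: `a` and the orbit of `t • a` under the involutions fixing `a`. -/
def circle (a : Ω) (t : G) : Set Ω :=
  {c | c = a ∨ ∃ x : G, x • a = a ∧ x * x = 1 ∧ x • t • a = c}

include hS

/-- An element of odd order inverted by an involution and fixing its centre is trivial. -/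
theorem inverted_eq_one (h2 : Four G) {u x : G} (hu1 : u ≠ 1) (hu2 : u * u = 1) (hinv : u * x * u = x⁻¹)
    (hx : Odd (orderOf x)) {c : Ω} (huc : u • c = c) (hxc : x • c = c) : x = 1 := by
  haveI := pretransitive hS
  obtain ⟨g, hg⟩ := exists_smul_eq G c a
  set u' := g * u * g⁻¹ with hu'
  set x' := g * x * g⁻¹ with hx'
  have hgi : g⁻¹ • a = c := inv_smul_eq_iff.mpr hg.symm
  have hu'I : u' ∈ involutionsIn (stabilizer G a : Set G) := by
    refine ⟨?_, fun e => hu1 (conj_eq_one_iff.mp e), ?_⟩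
    · show u' • a = a
      rw [hu', mul_smul, mul_smul, hgi, huc, hg]
    · rw [hu', conj_mul, hu2, mul_one, mul_inv_cancel]
  have hx'a : x' • a = a := by rw [hx', mul_smul, mul_smul, hgi, hxc, hg]
  have hx'' := invol_conj_mem hS hx'a hu'I
  have hcomm := invol_comm hS h2 hu'I hx''
  have hinv' : u' * x' * u' = x'⁻¹ := by
    rw [hu', hx', conj_mul, conj_mul, hinv, conj_inv]
  have hu'2 : u' * u' = 1 := hu'I.2.2
  have e : u' * (x' * u' * x'⁻¹) = x'⁻¹ * x'⁻¹ := by
    calc u' * (x' * u' * x'⁻¹) = u' * x' * u' * x'⁻¹ := by group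
      _ = _ := by rw [hinv']
  have e2 : x'⁻¹ * x'⁻¹ * (x'⁻¹ * x'⁻¹) = 1 := by
    rw [← e]
    calc u' * (x' * u' * x'⁻¹) * (u' * (x' * u' * x'⁻¹))
        = u' * (x' * u' * x'⁻¹ * u') * (x' * u' * x'⁻¹) := by group
      _ = (u' * u') * ((x' * u' * x'⁻¹) * (x' * u' * x'⁻¹)) := by rw [← hcomm]; group
      _ = 1 := by rw [hx''.2.2, hu'2, mul_one]
  have h4 : x' ^ 4 = 1 := by
    rw [← inv_inj, ← inv_pow, inv_one]
    simpa [pow_succ, mul_assoc] using e2
  have hord : orderOf x' = orderOf x := by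
    rw [hx']
    exact orderOf_injective (MulAut.conj g).toMonoidHom (MulAut.conj g).injective x
  have h5 : orderOf x' ∣ 2 ^ 2 := orderOf_dvd_of_pow_eq_one h4
  have h6 : orderOf x' = 1 :=
    Nat.eq_one_of_dvd_coprimes ((Nat.coprime_two_right.mpr hx).pow_right 2) (hord ▸ dvd_rfl) h5
  rw [hord, orderOf_eq_one_iff] at h6
  exact h6

/-- A non-trivial normal subgroup contains every involution. -/
theorem normal_invol (h2 : Four G) {N : Subgroup G} [N.Normal] (hN : N ≠ ⊥) {i : G} (hi1 : i ≠ 1)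
    (hi2 : i * i = 1) : i ∈ N := by
  haveI := Fact.mk Nat.prime_two
  haveI := pretransitive hS
  suffices hev : ∃ j ∈ N, j ≠ 1 ∧ j * j = 1 by
    obtain ⟨j, hjN, hj1, hj2⟩ := hev
    obtain ⟨g, rfl⟩ := invol_conj hS hj1 hj2 hi1 hi2
    exact ‹N.Normal›.conj_mem _ hjN g
  by_contra hno
  push Not at hno
  have hodd : Odd (Nat.card N) := by
    rw [← Nat.not_even_iff_odd, even_iff_two_dvd]
    intro h
    obtain ⟨z, hz⟩ := exists_prime_orderOf_dvd_card' (G := N) 2 h
    obtain ⟨hz2, hz1⟩ := CfsgLib.Involutions.orderOf_eq_two_iff'.mp hz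
    exact hno z z.2 (fun e => hz1 (Subtype.ext e)) (congrArg Subtype.val hz2)
  obtain ⟨s₁, h₁, s₂, h₂, hne⟩ := two_le_card_invol hS h2
  set A : Subgroup G := Subgroup.zpowers s₁ ⊔ Subgroup.zpowers s₂ with hA
  have hcomm := invol_comm hS h2 h₁ h₂
  have hcl : A = Subgroup.closure {s₁, s₂} := by
    rw [hA, Subgroup.zpowers_eq_closure, Subgroup.zpowers_eq_closure, ← Subgroup.closure_union]
    rfl
  haveI : IsMulCommutative A := by
    rw [hcl]
    refine Subgroup.isMulCommutative_closure ?_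
    rintro x (rfl | rfl) y (rfl | rfl) <;> simp [hcomm]
  have hAsq : ∀ x ∈ A, x * x = 1 := by
    intro x hx
    rw [hcl] at hx
    induction hx using Subgroup.closure_induction with
    | mem x hx => rcases hx with rfl | rfl
                  · exact h₁.2.2
                  · exact h₂.2.2
    | one => exact mul_one 1
    | mul x y hx hy ex ey =>
      have hc : x * y = y * x := congrArg Subtype.val
        ((inferInstance : IsMulCommutative A).is_comm.comm ⟨x, hcl ▸ hx⟩ ⟨y, hcl ▸ hy⟩)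
      calc x * y * (x * y) = x * (y * x) * y := by group
        _ = x * x * (y * y) := by rw [← hc]; group
        _ = 1 := by rw [ex, ey, mul_one]
    | inv x _ ex => rw [← mul_inv_rev, ex, inv_one]
  have hA2 : IsPGroup 2 A := fun x => ⟨1, Subtype.ext (by simpa [pow_two] using hAsq x x.2)⟩
  have hAa : ∀ x ∈ A, x • a = a := fun x hx => by
    have : A ≤ stabilizer G a := sup_le (Subgroup.zpowers_le.mpr h₁.1) (Subgroup.zpowers_le.mpr h₂.1)
    exact this hx
  have hcyc : ¬ IsCyclic A := by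
    intro hc
    obtain ⟨g, hg⟩ := hc.exists_generator
    have hle : Nat.card A ≤ 2 := by
      rw [← orderOf_eq_card_of_forall_mem_zpowers hg]
      exact Nat.le_of_dvd two_pos (orderOf_dvd_of_pow_eq_one (Subtype.ext (by simpa [pow_two] using hAsq g g.2)))
    let f : Option Bool → A := fun o => o.elim 1 fun b => cond b ⟨s₁, Subgroup.mem_sup_left (Subgroup.mem_zpowers _)⟩
      ⟨s₂, Subgroup.mem_sup_right (Subgroup.mem_zpowers _)⟩
    have hf : Function.Injective f := by
      rintro (_ | _ | _) (_ | _ | _) e <;> try rfl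
      all_goals have e' := congrArg Subtype.val e
      all_goals simp [f] at e'
      all_goals first
        | exact absurd e' h₁.2.1 | exact absurd e'.symm h₁.2.1 | exact absurd e' h₂.2.1
        | exact absurd e'.symm h₂.2.1 | exact absurd e' hne | exact absurd e'.symm hne
    have := Nat.card_le_card_of_injective f hf
    simp at this
    omega
  have hcop : (Nat.card A).Coprime (Nat.card N) := by
    obtain ⟨k, hk⟩ := hA2.exists_card_eq
    rw [hk]
    exact Nat.Coprime.pow_left _ (Nat.coprime_two_left.mpr hodd)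
  have hAN : A ≤ Subgroup.normalizer (N : Set G) := fun g _ => by
    rw [Subgroup.normalizer_eq_top]; exact Subgroup.mem_top _
  have hgen := coprime_generated_by_centralizers hcyc hAN hcop
  have hNa : N ≤ stabilizer G a := by
    rw [← hgen]
    refine iSup₂_le fun x hx y hy => ?_
    obtain ⟨hxA, hx1⟩ := hx
    exact not_fix_of_commute hS hx1 (hAsq x hxA) (hAa x hxA)
      (Subgroup.mem_centralizer_singleton_iff.mp hy.2).symm
  refine hN (eq_bot_iff.mpr fun n hn => Subgroup.mem_bot.mpr (eq_of_smul_eq_smul (α := Ω) fun c => ?_))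
  obtain ⟨g, rfl⟩ := exists_smul_eq G a c
  rw [one_smul]
  have h : (g⁻¹ * n * g⁻¹⁻¹) • a = a := hNa (‹N.Normal›.conj_mem n hn g⁻¹)
  rw [inv_inv, mul_smul, mul_smul, inv_smul_eq_iff] at h
  exact h

/-- `q` is a power of two, at least four. -/
theorem qZ_two_pow (h2 : Four G) : ∃ f : ℕ, 2 ≤ f ∧ qZ G a = 2 ^ f := by
  haveI := Fact.mk Nat.prime_two
  have hp : IsPGroup 2 (CfsgLib.AfterFT.SplitRankOne.invGroup hS h2) := fun x =>
    ⟨1, Subtype.ext (by simpa [pow_two] using x.2.2)⟩
  obtain ⟨f, hf⟩ := hp.exists_card_eq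
  rw [card_invGroup hS h2] at hf
  refine ⟨f, ?_, hf⟩
  have := three_le_qZ hS h2
  rcases f with _ | _ | f
  · rw [hf, pow_zero] at this; omega
  · rw [hf, zero_add, pow_one] at this; omega
  · omega

/-- Either the circle case, with `|Q|` equal to `q` or `q³`, or the Suzuki case. -/
theorem shape_cases (h2 : Four G) :
    (Rsq a t Q ∧ (Nat.card Q = qZ G a ∨ Nat.card Q = qZ G a ^ 3)) ∨
      (¬ Rsq a t Q ∧ Nat.card Q = qZ G a ^ 2) := by
  rcases (concl hS h2).2.1 with h | ⟨-, ⟨h1, h3⟩ | ⟨h1, h3⟩⟩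
  · refine Or.inl ⟨fun s r _ hr _ => h r hr, Or.inl ?_⟩
    rw [← card_sq_one hS]
    exact (Nat.card_congr (Equiv.subtypeUnivEquiv fun x : Q => Subtype.ext (h x x.2))).symm
  · exact Or.inl ⟨h3, Or.inr h1⟩
  · exact Or.inr ⟨h3, h1⟩

theorem card_circle (h2 : Four G) : Nat.card (circle a t) = qZ G a + 1 := by
  classical
  haveI := finite_points hS
  rw [← card_sq_one hS, ← Finite.card_option]
  refine (Nat.card_eq_of_bijective (fun o : Option {x : Q // x * x = 1} => (o.elim ⟨a, Or.inl rfl⟩ fun x =>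
    ⟨((x.1 : Q) : G) • t • a, Or.inr ⟨((x.1 : Q) : G), mem_Q_a hS x.1.2, congrArg Subtype.val x.2, rfl⟩⟩ :
      circle a t)) ⟨?_, ?_⟩).symm
  · rintro (_ | x) (_ | y) e
    · rfl
    · exact absurd (smul_left_cancel _ ((congrArg Subtype.val e).symm.trans (mem_Q_a hS y.1.2).symm)) (ta_ne hS)
    · exact absurd (smul_left_cancel _ ((congrArg Subtype.val e).trans (mem_Q_a hS x.1.2).symm)) (ta_ne hS)
    · exact congrArg some (Subtype.ext (Subtype.ext (Q_ta_inj hS x.1.2 y.1.2 (congrArg Subtype.val e))))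
  · rintro ⟨c, rfl | ⟨x, hxa, hx2, rfl⟩⟩
    · exact ⟨none, rfl⟩
    · exact ⟨some ⟨⟨x, invol_mem_Q hS hxa hx2⟩, Subtype.ext hx2⟩, rfl⟩

/-- If `Q` has order `q` the circle is everything. -/
theorem circle_eq_univ (h2 : Four G) (h : Nat.card Q = qZ G a) : circle a t = Set.univ := by
  haveI := finite_points hS
  refine (Set.eq_of_subset_of_ncard_le (Set.subset_univ _) ?_ (Set.toFinite _))
  rw [Set.ncard_univ, ← Nat.card_coe_set_eq, card_circle hS h2, card_points hS, h]

theorem circle_D {d : G} (hd : d ∈ D a t) {c : Ω} (hc : c ∈ circle a t) : d • c ∈ circle a t := by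
  obtain ⟨hda, hdt⟩ := (mem_D hS).mp hd
  rcases hc with rfl | ⟨x, hxa, hx2, rfl⟩
  · exact Or.inl hda
  · refine Or.inr ⟨d * x * d⁻¹, ?_, ?_, ?_⟩
    · rw [mul_smul, mul_smul, inv_smul_eq_iff.mpr hda.symm, hxa, hda]
    · rw [conj_mul, hx2, mul_one, mul_inv_cancel]
    · rw [mul_smul, mul_smul, inv_smul_eq_iff.mpr hdt.symm]

theorem circle_invol (h2 : Four G) {i : G} (hia : i • a = a) (hi2 : i * i = 1) {c : Ω} (hc : c ∈ circle a t) :
    i • c ∈ circle a t := by
  rcases hc with rfl | ⟨x, hxa, hx2, rfl⟩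
  · exact Or.inl hia
  · refine Or.inr ⟨i * x, by rw [mul_smul, hxa, hia], ?_, by rw [mul_smul]⟩
    by_cases hi1 : i = 1
    · rw [hi1, one_mul, hx2]
    by_cases hx1 : x = 1
    · rw [hx1, mul_one, hi2]
    have hc := invol_comm hS h2 (z := i) (z' := x) ⟨hia, hi1, hi2⟩ ⟨hxa, hx1, hx2⟩
    calc i * x * (i * x) = i * (x * i) * x := by group
      _ = i * i * (x * x) := by rw [← hc]; group
      _ = 1 := by rw [hi2, hx2, mul_one]

theorem circle_t (hR : Rsq a t Q) {c : Ω} (hc : c ∈ circle a t) : t • c ∈ circle a t := by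
  rcases hc with rfl | ⟨x, hxa, hx2, rfl⟩
  · exact Or.inr ⟨1, one_smul _ _, one_mul 1, one_smul _ _⟩
  by_cases hx1 : x = 1
  · exact Or.inl (by rw [hx1, one_smul, smul_smul_t hS])
  obtain ⟨⟨s, r⟩, ⟨hs, hr, he⟩, -⟩ := structure_eq hS
  obtain ⟨k, hk, hks⟩ := exists_conj_inverted hS hs (s2 := x) ⟨hxa, hx1, hx2⟩
  obtain ⟨hka, hkta⟩ := (mem_D hS).mp hk.1
  have hr2 : r * r = 1 := hR s r hs hr he
  have hra : r • a = a := mem_Q_a hS hr
  have hti : t * k * t = k⁻¹ := by rw [← hk.2, inv_t hS]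
  have hti' : t * k⁻¹ * t = k := by
    rw [← hti]
    simp [mul_assoc, hS.mul_self, ← mul_assoc t t]
  have e : t * x * t = k * (r⁻¹ * t * r) * k⁻¹ := by
    rw [← hks, ← he]
    calc t * (k⁻¹ * s * k) * t = (t * k⁻¹ * t) * (t * s * t) * (t * k * t) := by
          simp only [mul_assoc, ← mul_assoc t t, hS.mul_self, one_mul]
      _ = _ := by rw [hti, hti']
  refine Or.inr ⟨k * r⁻¹ * k⁻¹, ?_, ?_, ?_⟩
  · rw [mul_smul, mul_smul, inv_smul_eq_iff.mpr hka.symm, inv_smul_eq_iff.mpr hra.symm, hka]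
  · rw [conj_mul, ← mul_inv_rev, hr2, inv_one, mul_one, mul_inv_cancel]
  · calc (k * r⁻¹ * k⁻¹) • t • a = (k * r⁻¹ * t * r * k⁻¹) • a := by
          simp only [mul_smul]
          rw [inv_smul_eq_iff.mpr hka.symm, hra, inv_smul_eq_iff.mpr hkta.symm]
      _ = t • x • t • a := by
          simp only [← mul_smul]
          congr 1
          rw [← mul_assoc, e]
          group

theorem circle_invol_ta (h2 : Four G) (hR : Rsq a t Q) {i : G} (hia : i • t • a = t • a) (hi2 : i * i = 1)
    {c : Ω} (hc : c ∈ circle a t) : i • c ∈ circle a t := by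
  have h1 : (t * i * t) • a = a := by rw [mul_smul, mul_smul, hia, smul_smul_t hS]
  have h3 : t * i * t * (t * i * t) = 1 := by
    calc t * i * t * (t * i * t) = t * i * (t * t) * i * t := by group
      _ = 1 := by rw [hS.mul_self, mul_one, mul_assoc t i i, hi2, mul_one, hS.mul_self]
  have := circle_t hS hR (circle_invol hS h2 h1 h3 (circle_t hS hR hc))
  rwa [← mul_smul, ← mul_smul, show t * (t * i * t) * t = i by
    simp [mul_assoc, hS.mul_self, ← mul_assoc t t]] at this

/-- Every other point of the circle is the centre of a swapper of `a` and `t • a`. -/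
theorem circle_centre (hR : Rsq a t Q) {c : Ω} (hc : c ∈ circle a t) (hca : c ≠ a) (hct : c ≠ t • a) :
    ∃ k ∈ invertedBy (D a t) t, (t * k) • c = c := by
  obtain ⟨x, hxa, hx2, rfl⟩ := hc.resolve_left hca
  have hx1 : x ≠ 1 := fun e => hct (by rw [e, one_smul])
  obtain ⟨⟨s, r⟩, ⟨hs, hr, he⟩, -⟩ := structure_eq hS
  have hr2 : r * r = 1 := hR s r hs hr he
  have hri : r⁻¹ = r := inv_eq_of_mul_eq_one_right hr2
  have hr1 : r ≠ 1 := by
    intro e
    rw [e, inv_one, one_mul, mul_one] at he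
    refine hS.not_mem ?_
    have : s = t := by
      calc s = t * (t * s * t) * t := by simp [mul_assoc, hS.mul_self, ← mul_assoc t t]
        _ = t := by rw [he, hS.mul_self, one_mul]
    exact this ▸ hs.1
  obtain ⟨k, hk, hks⟩ := exists_conj_inverted hS (s1 := r) ⟨mem_Q_a hS hr, hr1, hr2⟩ (s2 := x) ⟨hxa, hx1, hx2⟩
  obtain ⟨hka, hkta⟩ := (mem_D hS).mp hk.1
  have hfix : t • r • t • a = r • t • a := by
    have hst : s • a = a := hs.1
    have h : (t * s * t) • t • a = t • a := by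
      rw [mul_smul, mul_smul, smul_smul_t hS, hst]
    rw [he, hri, mul_smul, mul_smul] at h
    have h' := congrArg (fun z => r • z) h
    simp only [smul_smul, ← mul_assoc, hr2, one_mul] at h'
    simpa [mul_smul] using h'
  have hti : t * k * t = k⁻¹ := by rw [← hk.2, inv_t hS]
  refine ⟨k * k, ⟨mul_mem hk.1 hk.1, ?_⟩, ?_⟩
  · rw [show t * (k * k) * t⁻¹ = t * k * t⁻¹ * (t * k * t⁻¹) by group, hk.2, mul_inv_rev]
  · have e : t * (k * k) = k⁻¹ * t * k := by
      rw [← hti]
      simp [mul_assoc, ← mul_assoc t t, hS.mul_self]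
    rw [e, ← hks]
    simp only [mul_smul]
    rw [hkta, smul_inv_smul, hfix]

/-- A set fixing `a`, `t • a` and the centres of all their swappers fixes the circle pointwise. -/
theorem fix_circle (hR : Rsq a t Q) {x : G} (hxa : x • a = a) (hxt : x • t • a = t • a)
    (hx : ∀ k ∈ invertedBy (D a t) t, ∀ c : Ω, (t * k) • c = c → x • c = c) {c : Ω} (hc : c ∈ circle a t) :
    x • c = c := by
  by_cases hca : c = a
  · rw [hca, hxa]
  by_cases hct : c = t • a
  · rw [hct, hxt]
  obtain ⟨k, hk, hkc⟩ := circle_centre hS hR hc hca hct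
  exact hx k hk c hkc

/-- In a group with the same `q` an element of `l`-power order centralising an involution is trivial
(`l` divides `q - 1` and does not divide `log q`). -/
theorem eq_one_of_cent_invol (h2 : Four G) {f l : ℕ} (hl : l.Prime) (hf : qZ G a = 2 ^ f)
    (hlq : l ∣ qZ G a - 1) (hlf : ¬ l ∣ f) {x : G} (hxD : x ∈ D a t) {n : ℕ} (hxl : x ^ l ^ n = 1) {s : G}
    (hs : s ∈ involutionsIn (stabilizer G a : Set G)) (hxs : x * s = s * x) : x = 1 := by
  classical
  haveI := Fact.mk hl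
  obtain ⟨⟨s₀, r₀⟩, ⟨hs₀, hr₀, he₀⟩, -⟩ := structure_eq hS
  obtain ⟨k, hk, hks⟩ := exists_conj_inverted hS hs₀ hs
  suffices hmain : ∀ y ∈ D a t, y ^ l ^ n = 1 → y * s₀ = s₀ * y → y = 1 by
    have h := hmain (k * x * k⁻¹) (mul_mem (mul_mem hk.1 hxD) (inv_mem hk.1))
      (by rw [conj_pow, hxl, mul_one, mul_inv_cancel]) (by
        calc k * x * k⁻¹ * s₀ = k * (x * (k⁻¹ * s₀ * k)) * k⁻¹ := by group
          _ = k * ((k⁻¹ * s₀ * k) * x) * k⁻¹ := by rw [hks, hxs]
          _ = s₀ * (k * x * k⁻¹) := by group)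
    exact conj_eq_one_iff.mp h
  intro y hyD hyl hys
  obtain ⟨C, F, instF, finF, ι, κ, σ, hC, hcard, -, hι, -, -, hκ, -, -, hker⟩ :=
    exists_galois hS h2 hs₀ hr₀ he₀
  have hyt : t * y = y * t := cent_t_of_cent_s hS hs₀ hr₀ he₀ hyD hys.symm
  let yV : Vt a t := ⟨y, Subgroup.mem_inf.mpr ⟨hyD, Subgroup.mem_centralizer_singleton_iff.mpr hyt.symm⟩⟩
  have hσ : σ yV = 1 := by
    have h1 : orderOf (σ yV) ∣ l ^ n := by
      refine orderOf_dvd_of_pow_eq_one ?_
      rw [← map_pow, show yV ^ l ^ n = 1 from Subtype.ext (by simpa using hyl), map_one]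
    obtain ⟨j, -, hj⟩ := (Nat.dvd_prime_pow hl).mp h1
    have h2' := card_eq_fixed_pow (σ yV)
    rw [hcard, hf, hj] at h2'
    set m := Nat.card {x : F // σ yV x = x} with hm
    rcases Nat.eq_zero_or_pos j with rfl | hjpos
    · rw [← orderOf_eq_one_iff, hj, pow_zero]
    exfalso
    obtain ⟨e, -, he⟩ := (Nat.dvd_prime_pow Nat.prime_two).mp
      (h2' ▸ dvd_pow_self m (pow_ne_zero j hl.ne_zero) : m ∣ 2 ^ f)
    rw [he, ← pow_mul] at h2'
    have h3 : f = e * l ^ j := Nat.pow_right_injective le_rfl h2'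
    exact hlf (h3 ▸ (dvd_pow_self l hjpos.ne').mul_left e)
  have hcent : ∀ z ∈ involutionsIn (stabilizer G a : Set G), y * z = z * y := (hker yV).mp hσ
  -- a non-cyclic group acting on `Q`
  by_contra hy1
  have hy_ord : l ∣ orderOf y := by
    obtain ⟨i, -, hi⟩ := (Nat.dvd_prime_pow hl).mp (orderOf_dvd_of_pow_eq_one hyl)
    rcases Nat.eq_zero_or_pos i with rfl | hipos
    · exact absurd (orderOf_eq_one_iff.mp (by simpa using hi)) hy1
    · exact hi ▸ dvd_pow_self l hipos.ne'
  set w := y ^ (orderOf y / l) with hw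
  have hwo : orderOf w = l := orderOf_pow_orderOf_div (orderOf_pos y).ne' hy_ord
  have hwD : w ∈ D a t := pow_mem hyD _
  have hw1 : w ≠ 1 := fun e => hl.one_lt.ne (by rw [← hwo, e, orderOf_one])
  have hwc : ∀ z ∈ involutionsIn (stabilizer G a : Set G), w * z = z * w := fun z hz =>
    ((show Commute y z from hcent z hz).pow_left _).eq
  have hCI : ∀ {g : G}, g ∈ C → g ∈ invertedBy (D a t) t := fun {g} hg => by rwa [← SetLike.mem_coe, hC] at hg
  have hCcard : Nat.card C + 1 = qZ G a := by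
    rw [← card_inverted_qZ hS, show Nat.card (invertedBy (D a t) t) = Nat.card C from by
      rw [← hC]; rfl]
  obtain ⟨⟨k₁, hk₁C⟩, hk₁o⟩ := exists_prime_orderOf_dvd_card' (G := C) l (by
    rwa [show Nat.card C = qZ G a - 1 by omega])
  rw [Subgroup.orderOf_mk] at hk₁o
  have hk₁ := hCI hk₁C
  have hwk : w * k₁ = k₁ * w := inverted_comm hS h2 hwD hwc hk₁
  set A : Subgroup G := Subgroup.closure {w, k₁} with hA
  haveI : IsMulCommutative A := by
    refine Subgroup.isMulCommutative_closure ?_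
    rintro x (rfl | rfl) z (rfl | rfl) <;> simp [hwk]
  have hmemA : ∀ g ∈ A, ∃ i j : ℤ, g = w ^ i * k₁ ^ j := by
    intro g hg
    induction hg using Subgroup.closure_induction with
    | mem g hg => rcases hg with rfl | rfl
                  · exact ⟨1, 0, by simp⟩
                  · exact ⟨0, 1, by simp⟩
    | one => exact ⟨0, 0, by simp⟩
    | mul g g' _ _ hg hg' =>
      obtain ⟨i, j, rfl⟩ := hg
      obtain ⟨i', j', rfl⟩ := hg'
      refine ⟨i + i', j + j', ?_⟩
      rw [zpow_add, zpow_add]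
      calc w ^ i * k₁ ^ j * (w ^ i' * k₁ ^ j') = w ^ i * (k₁ ^ j * w ^ i') * k₁ ^ j' := by group
        _ = _ := by rw [((show Commute k₁ w from hwk.symm).zpow_zpow j i').eq]; group
    | inv g _ hg =>
      obtain ⟨i, j, rfl⟩ := hg
      refine ⟨-i, -j, ?_⟩
      rw [mul_inv_rev, ← zpow_neg, ← zpow_neg]
      exact ((show Commute k₁ w from hwk.symm).zpow_zpow (-j) (-i)).eq
  have hAD : A ≤ D a t := (Subgroup.closure_le _).mpr fun g hg => by
    rcases hg with rfl | rfl
    · exact hwD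
    · exact hk₁.1
  have hwpow : ∀ i : ℤ, ∀ z ∈ involutionsIn (stabilizer G a : Set G), w ^ i * z = z * w ^ i := fun i z hz =>
    ((show Commute w z from hwc z hz).zpow_left i).eq
  have hkinj : ∀ j : ℤ, (k₁ ^ j * s₀ = s₀ * k₁ ^ j) → k₁ ^ j = 1 := fun j h =>
    inverted_cent_s hS hs₀ hr₀ he₀ (hCI (C.zpow_mem hk₁C j)) h.symm
  have hcyc : ¬ IsCyclic A := by
    intro hc
    obtain ⟨g, hg⟩ := hc.exists_generator
    have hgl : g ^ l = 1 := by
      obtain ⟨i, j, he⟩ := hmemA g g.2
      refine Subtype.ext ?_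
      rw [SubmonoidClass.coe_pow, OneMemClass.coe_one, he,
        ((show Commute w k₁ from hwk).zpow_zpow i j).mul_pow, ← zpow_natCast, ← zpow_mul, mul_comm i, zpow_mul,
        zpow_natCast, ← hwo, pow_orderOf_eq_one, one_zpow, one_mul, ← zpow_natCast, ← zpow_mul, mul_comm j,
        zpow_mul, zpow_natCast, hwo, ← hk₁o, pow_orderOf_eq_one, one_zpow]
    have hle : Nat.card A ≤ l := by
      rw [← orderOf_eq_card_of_forall_mem_zpowers hg]
      exact Nat.le_of_dvd hl.pos (orderOf_dvd_of_pow_eq_one hgl)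
    have heq : Subgroup.zpowers w = A := Subgroup.eq_of_le_of_card_ge
      (Subgroup.zpowers_le.mpr (Subgroup.subset_closure (Set.mem_insert _ _)))
      (by rw [Nat.card_zpowers, hwo]; exact hle)
    obtain ⟨i, hi⟩ := heq.ge (Subgroup.subset_closure (Set.mem_insert_of_mem w (Set.mem_singleton k₁)))
    have : k₁ = 1 := by
      have h := hkinj 1 (by rw [zpow_one, ← hi]; exact hwpow i s₀ hs₀)
      rwa [zpow_one] at h
    rw [this, orderOf_one] at hk₁o
    exact hl.one_lt.ne hk₁o
  have hQ2 : IsPGroup 2 Q := (concl hS h2).1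
  haveI := Fact.mk Nat.prime_two
  have hcop : (Nat.card A).Coprime (Nat.card Q) := by
    obtain ⟨i, hi⟩ := hQ2.exists_card_eq
    rw [hi]
    exact (Nat.coprime_two_right.mpr (hS.odd_card.of_dvd_nat (Subgroup.card_dvd_of_le hAD))).pow_right i
  have hAQ : A ≤ Subgroup.normalizer (Q : Set G) := fun g hg => by
    rw [normalizer_Q hS]
    exact ((mem_D hS).mp (hAD hg)).1
  have hgen := coprime_generated_by_centralizers hcyc hAQ hcop
  refine hw1 (eq_one_of_cent_Q hS hwD fun q hq => ?_)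
  suffices hle : Q ≤ Subgroup.centralizer {w} from Subgroup.mem_centralizer_singleton_iff.mp (hle hq)
  rw [← hgen]
  refine iSup₂_le fun g hg q' hq' => ?_
  obtain ⟨hgA, hg1⟩ := hg
  obtain ⟨hq'Q, hq'g⟩ := hq'
  obtain ⟨i, j, rfl⟩ := hmemA g hgA
  have hq'g' : q' * (w ^ i * k₁ ^ j) = w ^ i * k₁ ^ j * q' := Subgroup.mem_centralizer_singleton_iff.mp hq'g
  by_cases hq'1 : q' = 1
  · rw [hq'1]; exact one_mem _
  have hkj : k₁ ^ j = 1 := by
    by_contra hne
    obtain ⟨m, hm⟩ := hQ2 ⟨q', hq'Q⟩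
    have hm' : q' ^ 2 ^ m = 1 := by simpa using congrArg Subtype.val hm
    obtain ⟨i', -, hi'⟩ := (Nat.dvd_prime_pow Nat.prime_two).mp (orderOf_dvd_of_pow_eq_one hm')
    have hi0 : i' ≠ 0 := fun e => hq'1 (orderOf_eq_one_iff.mp (by rw [hi', e, pow_zero]))
    set z := q' ^ 2 ^ (i' - 1) with hz
    have hzI : z ∈ involutionsIn (stabilizer G a : Set G) := by
      refine ⟨hS.le (pow_mem hq'Q _), fun e => ?_, ?_⟩
      · have hd := orderOf_dvd_of_pow_eq_one e
        rw [hi', Nat.pow_dvd_pow_iff_le_right (by norm_num)] at hd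
        omega
      · rw [hz, ← pow_two, ← pow_mul, ← pow_succ, show i' - 1 + 1 = i' by omega, ← hi', pow_orderOf_eq_one]
    have hzg : z * (w ^ i * k₁ ^ j) = w ^ i * k₁ ^ j * z :=
      ((show Commute q' (w ^ i * k₁ ^ j) from hq'g').pow_left _).eq
    have hzk : k₁ ^ j * z = z * k₁ ^ j := by
      have h := hwpow i z hzI
      calc k₁ ^ j * z = (w ^ i)⁻¹ * (w ^ i * k₁ ^ j * z) := by group
        _ = (w ^ i)⁻¹ * (z * w ^ i) * k₁ ^ j := by rw [← hzg]; group
        _ = z * k₁ ^ j := by rw [← h]; group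
    obtain ⟨m₀, hm₀, hmz⟩ := exists_conj_inverted hS hs₀ hzI
    refine hne (hkinj j ?_)
    have hcC : ∀ {g g' : G}, g ∈ C → g' ∈ C → g * g' = g' * g := by
      intro g g' hg hg'
      have h := κ.map_mul ⟨g, hg⟩ ⟨g', hg'⟩
      rw [mul_comm, ← map_mul] at h
      exact congrArg Subtype.val (hκ.1 h)
    have hm₀C : m₀ ∈ C := by rw [← SetLike.mem_coe, hC]; exact hm₀
    have hmk := hcC hm₀C (C.zpow_mem hk₁C j)
    calc k₁ ^ j * s₀ = m₀ * (k₁ ^ j * (m₀⁻¹ * s₀ * m₀)) * m₀⁻¹ := by
          rw [← mul_assoc m₀, hmk]; group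
      _ = m₀ * ((m₀⁻¹ * s₀ * m₀) * k₁ ^ j) * m₀⁻¹ := by rw [hmz, hzk]
      _ = s₀ * (m₀ * k₁ ^ j * m₀⁻¹) := by group
      _ = s₀ * k₁ ^ j := by rw [hmk, mul_inv_cancel_right]
  rw [hkj, mul_one] at hq'g' hg1
  rw [Subgroup.mem_centralizer_singleton_iff]
  obtain ⟨i₂, hi₂⟩ : w ∈ Subgroup.zpowers (w ^ i) := by
    have heq : Subgroup.zpowers (w ^ i) = Subgroup.zpowers w := Subgroup.eq_of_le_of_card_ge
      (Subgroup.zpowers_le.mpr ⟨i, rfl⟩) (by
        rw [Nat.card_zpowers, Nat.card_zpowers, hwo, orderOf_eq_prime (G := G) (p := l) (by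
          rw [← zpow_natCast, ← zpow_mul, mul_comm, zpow_mul, zpow_natCast, ← hwo, pow_orderOf_eq_one,
            one_zpow]) hg1])
    exact heq.ge (Subgroup.mem_zpowers w)
  rw [← hi₂]
  exact ((show Commute q' (w ^ i) from hq'g').zpow_right i₂).eq

/-- Such an element fixes no point other than `a` and `t • a`. -/
theorem fix_two_only (h2 : Four G) {f l : ℕ} (hl : l.Prime) (hf : qZ G a = 2 ^ f) (hlq : l ∣ qZ G a - 1)
    (hlf : ¬ l ∣ f) {x : G} (hxD : x ∈ D a t) {n : ℕ} (hxl : x ^ l ^ n = 1) (hx1 : x ≠ 1) {c : Ω}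
    (hc : x • c = c) : c = a ∨ c = t • a := by
  by_contra hcon
  rw [not_or] at hcon
  obtain ⟨hxa, hxt⟩ := (mem_D hS).mp hxD
  obtain ⟨y, hy, rfl⟩ := exists_Q_ta hS hcon.1
  have hxy : x * y = y * x := by
    have h := Q_ta_inj hS (conj_Q hS hxa hy) hy (by
      rw [mul_smul, mul_smul, inv_smul_eq_iff.mpr hxt.symm, hc])
    rwa [mul_inv_eq_iff_eq_mul] at h
  have hy1 : y ≠ 1 := fun e => hcon.2 (by rw [e, one_smul])
  haveI := Fact.mk Nat.prime_two
  obtain ⟨m, hm⟩ := (concl hS h2).1 ⟨y, hy⟩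
  have hm' : y ^ 2 ^ m = 1 := by simpa using congrArg Subtype.val hm
  obtain ⟨i', -, hi'⟩ := (Nat.dvd_prime_pow Nat.prime_two).mp (orderOf_dvd_of_pow_eq_one hm')
  have hi0 : i' ≠ 0 := fun e => hy1 (orderOf_eq_one_iff.mp (by rw [hi', e, pow_zero]))
  refine hx1 (eq_one_of_cent_invol hS h2 hl hf hlq hlf hxD hxl (s := y ^ 2 ^ (i' - 1))
    ⟨hS.le (pow_mem hy _), fun e => ?_, ?_⟩ ((show Commute x y from hxy).pow_right _).eq)
  · have hd := orderOf_dvd_of_pow_eq_one e
    rw [hi', Nat.pow_dvd_pow_iff_le_right (by norm_num)] at hd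
    omega
  · rw [← pow_two, ← pow_mul, ← pow_succ, show i' - 1 + 1 = i' by omega, ← hi', pow_orderOf_eq_one]

/-- An element of `l`-power order centralising an involution is trivial. -/
theorem eq_one_of_commute_invol (h2 : Four G) {f l : ℕ} (hl : l.Prime) (hf : qZ G a = 2 ^ f)
    (hlq : l ∣ qZ G a - 1) (hlf : ¬ l ∣ f) {x : G} {n : ℕ} (hxl : x ^ l ^ n = 1) {i : G} (hi1 : i ≠ 1)
    (hi2 : i * i = 1) (hxi : x * i = i * x) : x = 1 := by
  classical
  haveI := Fact.mk hl
  haveI := Fact.mk Nat.prime_two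
  haveI := pretransitive hS
  obtain ⟨c, hc⟩ := exists_fix hS hi1 hi2
  obtain ⟨g, hg⟩ := exists_smul_eq G c a
  suffices h : ∀ y : G, y ^ l ^ n = 1 → ∀ s ∈ involutionsIn (stabilizer G a : Set G), y * s = s * y →
      y • a = a → y = 1 by
    have hgi : g⁻¹ • a = c := inv_smul_eq_iff.mpr hg.symm
    have := h (g * x * g⁻¹) (by rw [conj_pow, hxl, mul_one, mul_inv_cancel]) (g * i * g⁻¹)
      ⟨by show (g * i * g⁻¹) • a = a; rw [mul_smul, mul_smul, hgi, hc, hg], fun e => hi1 (conj_eq_one_iff.mp e),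
        by rw [conj_mul, hi2, mul_one, mul_inv_cancel]⟩ (by rw [conj_mul, conj_mul, hxi])
      (by rw [mul_smul, mul_smul, hgi, not_fix_of_commute hS hi1 hi2 hc hxi.symm, hg])
    exact conj_eq_one_iff.mp this
  intro y hyl s hs hys hya
  haveI := finite_points hS
  -- a second fixed point
  let K := Subgroup.zpowers y
  have hK : IsPGroup l K := fun z => by
    obtain ⟨i, hi⟩ := z.2
    refine ⟨n, Subtype.ext ?_⟩
    show (z : G) ^ l ^ n = 1
    rw [← hi, ← zpow_natCast, ← zpow_mul, mul_comm, zpow_mul, zpow_natCast, hyl, one_zpow]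
  have hmod := hK.card_modEq_card_fixedPoints Ω
  have hne : ∃ d ∈ fixedPoints K Ω, d ≠ a := by
    by_contra hall
    push Not at hall
    have hsub : fixedPoints K Ω = {a} := by
      refine Set.Subset.antisymm hall ?_
      intro d hd
      rw [Set.mem_singleton_iff] at hd
      subst hd
      intro z
      exact (Subgroup.zpowers_le.mpr (mem_stabilizer_iff.mpr hya) : K ≤ stabilizer G _) z.2
    have h1 : Nat.card (fixedPoints K Ω) = 1 := by rw [hsub, Nat.card_coe_set_eq, Set.ncard_singleton]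
    rw [h1, card_points hS] at hmod
    have hld : l ∣ Nat.card Q := by
      have := (Nat.modEq_iff_dvd' (Nat.le_add_left 1 _)).mp hmod.symm
      simpa using this
    obtain ⟨e, he⟩ := (concl hS h2).1.exists_card_eq
    rw [he] at hld
    have h2l := (Nat.prime_dvd_prime_iff_eq hl Nat.prime_two).mp (hl.dvd_of_dvd_pow hld)
    rw [h2l, hf] at hlq
    have hf0 : f ≠ 0 := fun e => by rw [h2l, e] at hlf; exact hlf (dvd_zero 2)
    have h2f : 2 ∣ 2 ^ f := dvd_pow_self 2 hf0
    have := Nat.one_le_two_pow (n := f)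
    omega
  obtain ⟨d, hd, hda⟩ := hne
  have hyd : y • d = d := hd (⟨y, Subgroup.mem_zpowers y⟩ : K)
  obtain ⟨z, hz, hzd⟩ := exists_Q_ta hS hda
  have hza : z • a = a := mem_Q_a hS hz
  have hzi : z⁻¹ • a = a := inv_smul_eq_iff.mpr hza.symm
  have h := eq_one_of_cent_invol hS h2 hl hf hlq hlf (x := z⁻¹ * y * z) (n := n) (s := z⁻¹ * s * z)
    ((mem_D hS).mpr ⟨by rw [mul_smul, mul_smul, hza, hya, hzi],
      by rw [mul_smul, mul_smul, hzd, hyd, inv_smul_eq_iff.mpr hzd.symm]⟩)
    (by have h := conj_pow (i := l ^ n) (a := z⁻¹) (b := y); rw [inv_inv] at h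
        rw [h, hyl, mul_one, inv_mul_cancel])
    (by have h := invol_conj_mem hS hzi hs; rwa [inv_inv] at h)
    (by calc z⁻¹ * y * z * (z⁻¹ * s * z) = z⁻¹ * (y * s) * z := by group
          _ = z⁻¹ * (s * y) * z := by rw [hys]
          _ = _ := by group)
  calc y = z * (z⁻¹ * y * z) * z⁻¹ := by group
    _ = 1 := by rw [h, mul_one, mul_inv_cancel]

omit hS

omit [Finite G] in
/-- A semiregular element divides the size of every finite invariant set. -/
theorem orderOf_dvd_card {x : G} {S : Set Ω} [Finite S] (hS' : ∀ c ∈ S, x • c ∈ S)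
    (hfree : ∀ c ∈ S, ∀ m : ℕ, x ^ m • c = c → x ^ m = 1) : orderOf x ∣ Nat.card S := by
  classical
  let e : Equiv.Perm S := Equiv.ofBijective (fun c => ⟨x • (c : Ω), hS' c c.2⟩)
    (Finite.injective_iff_bijective.mp fun c d h => Subtype.ext (smul_left_cancel x (congrArg Subtype.val h)))
  have hpow : ∀ (m : ℕ) (c : S), ((e ^ m) c : Ω) = x ^ m • (c : Ω) := by
    intro m
    induction m with
    | zero => intro c; simp
    | succ m ih =>
      intro c
      rw [pow_succ', Equiv.Perm.mul_apply, pow_succ', mul_smul, ← ih]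
      rfl
  rcases isEmpty_or_nonempty S with h | h
  · rw [Nat.card_of_isEmpty]; exact dvd_zero _
  have hord : orderOf e = orderOf x := by
    refine orderOf_eq_orderOf_iff.mpr fun m => ⟨fun h1 => ?_, fun h1 => Equiv.ext fun c => Subtype.ext ?_⟩
    · obtain ⟨c⟩ := h
      refine hfree c c.2 m ?_
      rw [← hpow m c, h1]
      rfl
    · rw [hpow, h1, one_smul]; rfl
  let K := Subgroup.zpowers e
  have hfree' : ∀ (k : K) (c : S), k • c = c → k = 1 := by
    rintro ⟨_, hk⟩ c hkc
    obtain ⟨m, rfl⟩ := (IsOfFinOrder.mem_powers_iff_mem_zpowers (isOfFinOrder_of_finite e)).mpr hk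
    have h1 : x ^ m = 1 := hfree c c.2 m (by
      rw [← hpow m c]
      exact congrArg Subtype.val hkc)
    exact Subtype.ext (Equiv.ext fun d => Subtype.ext (by rw [hpow, h1, one_smul]; rfl))
  have hcard : ∀ ω : Quotient (orbitRel K S), Nat.card (orbit K ω.out) = Nat.card K := fun ω => by
    rw [Nat.card_congr (orbitEquivQuotientStabilizer K ω.out)]
    have hb : stabilizer K ω.out = ⊥ := eq_bot_iff.mpr fun k hk => hfree' k _ (mem_stabilizer_iff.mp hk)
    rw [← Subgroup.index_eq_card, hb, Subgroup.index_bot]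
  haveI : Fintype (Quotient (orbitRel K S)) := Fintype.ofFinite _
  rw [← hord, ← Nat.card_zpowers, Nat.card_congr (MulAction.selfEquivSigmaOrbits K S), Nat.card_sigma]
  refine Finset.dvd_sum fun ω _ => ?_
  rw [hcard ω]

include hS

/-- The possible orders of elements of odd order inverted by an involution. -/
theorem inverted_order (h2 : Four G) {x i : G} (hx : Odd (orderOf x)) (hi1 : i ≠ 1) (hi2 : i * i = 1)
    (hinv : i * x * i = x⁻¹) :
    orderOf x ∣ qZ G a - 1 ∨ orderOf x ∣ qZ G a + 1 ∨ (¬ Rsq a t Q ∧ orderOf x ∣ qZ G a ^ 2 + 1) := by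
  classical
  haveI := finite_points hS
  by_cases hfree : ∀ (c : Ω) (m : ℕ), x ^ m • c = c → x ^ m = 1
  · rcases shape_cases hS h2 with ⟨hR, -⟩ | ⟨hR, hQ⟩
    · by_cases hx1 : x = 1
      · exact Or.inl (by rw [hx1, orderOf_one]; exact one_dvd _)
      right; left
      obtain ⟨c, hc⟩ := exists_fix hS hi1 hi2
      have hj2 : i * x * (i * x) = 1 := by
        rw [show i * x * (i * x) = i * x * i * x by group, hinv, inv_mul_cancel]
      have hj1 : i * x ≠ 1 := by
        intro e
        have hxi : x = i := by rw [← inv_eq_of_mul_eq_one_right e, inv_eq_of_mul_eq_one_right hi2]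
        rw [hxi, orderOf_eq_prime (p := 2) (by rw [pow_two]; exact hi2) hi1] at hx
        exact absurd hx (by decide)
      obtain ⟨d, hd⟩ := exists_fix hS hj1 hj2
      have hcd : c ≠ d := by
        intro e
        subst e
        refine hx1 (inverted_eq_one hS h2 hi1 hi2 hinv hx hc ?_)
        rw [mul_smul] at hd
        have := congrArg (fun z => i • z) hd
        simpa [smul_smul, hi2, hc, ← mul_assoc] using this
      obtain ⟨g, hgc, hgd⟩ := two_pt hS hcd (ta_ne hS).symm
      have hgi1 : g⁻¹ • a = c := inv_smul_eq_iff.mpr hgc.symm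
      have hgi2 : g⁻¹ • t • a = d := inv_smul_eq_iff.mpr hgd.symm
      have hord : orderOf (g * x * g⁻¹) = orderOf x :=
        orderOf_injective (MulAut.conj g).toMonoidHom (MulAut.conj g).injective x
      rw [← hord, ← card_circle hS h2]
      refine orderOf_dvd_card (fun z hz => ?_) fun z _ m hm => ?_
      · have h1 := circle_invol_ta hS h2 hR (i := g * (i * x) * g⁻¹)
          (by rw [mul_smul, mul_smul, hgi2, hd, hgd]) (by rw [conj_mul, hj2, mul_one, mul_inv_cancel]) hz
        have h3 := circle_invol hS h2 (i := g * i * g⁻¹) (by rw [mul_smul, mul_smul, hgi1, hc, hgc])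
          (by rw [conj_mul, hi2, mul_one, mul_inv_cancel]) h1
        rwa [← mul_smul, conj_mul, ← mul_assoc i i, hi2, one_mul] at h3
      · rw [conj_pow, mul_smul, mul_smul, ← eq_inv_smul_iff] at hm
        rw [conj_pow, hfree _ m hm, mul_one, mul_inv_cancel]
    · refine Or.inr (Or.inr ⟨hR, ?_⟩)
      rw [← hQ, ← card_points hS, ← Nat.card_congr (Equiv.Set.univ Ω)]
      exact orderOf_dvd_card (fun c _ => Set.mem_univ _) fun c _ m hm => hfree c m hm
  · push Not at hfree
    obtain ⟨p, m, hm, hm1⟩ := hfree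
    left
    set y := x ^ m with hy
    have hyinv : i * y * i = y⁻¹ := by
      have h := conj_pow (i := m) (a := i) (b := x)
      rw [inv_eq_of_mul_eq_one_right hi2, hinv, inv_pow] at h
      exact h.symm
    have hip : i • p ≠ p := fun e =>
      hm1 (inverted_eq_one hS h2 hi1 hi2 hyinv (hx.of_dvd_nat (orderOf_pow_dvd m)) e hm)
    have hyp : y • i • p = i • p := by
      have h1 : y⁻¹ • p = p := inv_smul_eq_iff.mpr hm.symm
      have h3 := congrArg (fun g => g • p) hyinv
      simp only [mul_smul, h1] at h3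
      have h4 := congrArg (fun z => i • z) h3
      simpa [smul_smul, ← mul_assoc, hi2] using h4
    obtain ⟨g, hgp, hgip⟩ := two_pt hS (Ne.symm hip) (ta_ne hS).symm
    have hgi1 : g⁻¹ • a = p := inv_smul_eq_iff.mpr hgp.symm
    have hgi2 : g⁻¹ • t • a = i • p := inv_smul_eq_iff.mpr hgip.symm
    set j := g * i * g⁻¹ with hj
    have hj2 : j * j = 1 := by rw [hj, conj_mul, hi2, mul_one, mul_inv_cancel]
    have hja : j • a = t • a := by rw [hj, mul_smul, mul_smul, hgi1, hgip]
    have hjt : j • t • a = a := by rw [← hja, smul_smul, hj2, one_smul]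
    have hd : t * j ∈ invertedBy (D a t) t := by
      refine ⟨(mem_D hS).mpr ⟨by rw [mul_smul, hja, smul_smul_t hS], by rw [mul_smul, hjt]⟩, ?_⟩
      rw [inv_t hS, mul_inv_rev, inv_t hS, inv_eq_of_mul_eq_one_right hj2, ← mul_assoc, hS.mul_self, one_mul]
    obtain ⟨k, hk, hkk⟩ := Inverted.exists_sqrt_inverted (t := t) hS.odd_card (D_norm hS) hd
    obtain ⟨hka, hkt⟩ := (mem_D hS).mp hk.1
    have hti : t * k * t = k⁻¹ := by rw [← hk.2, inv_t hS]
    have hkj : k * j * k⁻¹ = t := by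
      have e : j = t * (k * k) := by rw [hkk, ← mul_assoc, hS.mul_self, one_mul]
      have e2 : k * t * k = t := by
        calc k * t * k = k * (t * k * t) * t := by simp [mul_assoc, hS.mul_self]
          _ = t := by rw [hti, mul_inv_cancel, one_mul]
      rw [e]
      calc k * (t * (k * k)) * k⁻¹ = k * t * k := by group
        _ = t := e2
    set h := k * g with hh
    have hhi : h * i * h⁻¹ = t := by
      rw [hh, ← hkj, hj]; group
    have hhp : h • p = a := by rw [hh, mul_smul, hgp, hka]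
    have hhip : h • i • p = t • a := by rw [hh, mul_smul, hgip, hkt]
    have hhi1 : h⁻¹ • a = p := inv_smul_eq_iff.mpr hhp.symm
    have hhi2 : h⁻¹ • t • a = i • p := inv_smul_eq_iff.mpr hhip.symm
    have hinvc : ∀ z : G, i * z * i = z⁻¹ → t * (h * z * h⁻¹) * t⁻¹ = (h * z * h⁻¹)⁻¹ := by
      intro z hz
      rw [inv_t hS, ← hhi, conj_mul, conj_mul, hz, conj_inv]
    have hyI : h * y * h⁻¹ ∈ invertedBy (D a t) t :=
      ⟨(mem_D hS).mpr ⟨by rw [mul_smul, mul_smul, hhi1, hm, hhp],
        by rw [mul_smul, mul_smul, hhi2, hyp, hhip]⟩, hinvc y hyinv⟩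
    have hy1' : h * y * h⁻¹ ≠ 1 := fun e => hm1 (conj_eq_one_iff.mp e)
    set x' := h * x * h⁻¹ with hx'
    have hord : orderOf x' = orderOf x :=
      orderOf_injective (MulAut.conj h).toMonoidHom (MulAut.conj h).injective x
    have hcomm : (h * y * h⁻¹) * x' = x' * (h * y * h⁻¹) := by
      rw [hx', conj_mul, conj_mul, hy, ← pow_succ, ← pow_succ']
    have hperm : ∀ c : Ω, (c = a ∨ c = t • a) → x' • c = a ∨ x' • c = t • a := by
      intro c hcc
      refine inverted_fix hS hyI hy1' ?_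
      rw [← mul_smul, hcomm, mul_smul]
      rcases hcc with rfl | rfl
      · rw [((mem_D hS).mp hyI.1).1]
      · rw [((mem_D hS).mp hyI.1).2]
    have hfa : x' • a = a := by
      rcases hperm a (Or.inl rfl) with h1 | h1
      · exact h1
      · exfalso
        have h2' : x' • t • a = a := by
          rcases hperm (t • a) (Or.inr rfl) with h3 | h3
          · exact h3
          · exact absurd (smul_left_cancel x' (h1.trans h3.symm)) (ta_ne hS).symm
        obtain ⟨r, hr⟩ := hx
        have h4 : ∀ r : ℕ, x' ^ (2 * r) • a = a := by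
          intro r
          induction r with
          | zero => simp
          | succ r ih =>
            rw [show 2 * (r + 1) = 2 * r + 1 + 1 by ring, pow_succ, pow_succ, mul_assoc, mul_smul, mul_smul, h1,
              h2', ih]
        have h5 : x' ^ (2 * r + 1) • a = a := by rw [← hr, ← hord, pow_orderOf_eq_one, one_smul]
        rw [pow_succ', mul_smul, h4 r, h1] at h5
        exact ta_ne hS h5
    have hft : x' • t • a = t • a := by
      rcases hperm (t • a) (Or.inr rfl) with h3 | h3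
      · exact absurd (smul_left_cancel x' (h3.trans hfa.symm)) (ta_ne hS)
      · exact h3
    obtain ⟨C, hC, -, -⟩ := Cfsg.Agent.S1131.result hS h2
    have hx'C : x' ∈ C := by
      rw [← SetLike.mem_coe, hC]
      exact ⟨(mem_D hS).mpr ⟨hfa, hft⟩, hinvc x hinv⟩
    have hdvd := Subgroup.orderOf_dvd_natCard C hx'C
    have hCcard : Nat.card C + 1 = qZ G a := by
      rw [← card_inverted_qZ hS, show Nat.card (invertedBy (D a t) t) = Nat.card C from by rw [← hC]; rfl]
    rwa [hord, show Nat.card C = qZ G a - 1 by omega] at hdvd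

omit hS

/-- A smaller group has no element of order `q - 1` inverted by an involution. -/
theorem pow_bound {n n' : ℕ} (hn : 3 ≤ n) (hn' : 1 ≤ n') (hlt : n' < n) :
    ¬ 2 ^ n - 1 ∣ 2 ^ n' - 1 ∧ ¬ 2 ^ n - 1 ∣ 2 ^ n' + 1 ∧ ¬ 2 ^ n - 1 ∣ (2 ^ n') ^ 2 + 1 := by
  have h8 : 8 ≤ 2 ^ n := by simpa using Nat.pow_le_pow_right two_pos hn
  have h2 : 2 ≤ 2 ^ n' := by simpa using Nat.pow_le_pow_right two_pos hn'
  have hhalf : 2 * 2 ^ n' ≤ 2 ^ n := by
    rw [← pow_succ']; exact Nat.pow_le_pow_right two_pos hlt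
  refine ⟨fun h => ?_, fun h => ?_, fun h => ?_⟩
  · have := Nat.le_of_dvd (by omega) h; omega
  · have := Nat.le_of_dvd (by omega) h; omega
  · rw [← pow_mul] at h
    rcases lt_or_ge (n' * 2) n with h1 | h1
    · have h3 : 2 * 2 ^ (n' * 2) ≤ 2 ^ n := by
        rw [← pow_succ']; exact Nat.pow_le_pow_right two_pos h1
      have := Nat.le_of_dvd (by omega) h
      omega
    · obtain ⟨j, hj⟩ := Nat.exists_eq_add_of_le h1
      have e : 2 ^ (n' * 2) + 1 = 2 ^ j * (2 ^ n - 1) + (2 ^ j + 1) := by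
        rw [hj, pow_add, Nat.mul_sub, mul_one]
        have : 2 ^ j ≤ 2 ^ j * 2 ^ n := Nat.le_mul_of_pos_right _ (by positivity)
        rw [mul_comm (2 ^ n)]
        omega
      rw [e] at h
      have h3 := (Nat.dvd_add_right (dvd_mul_left _ _)).mp h
      have h4 : 4 * 2 ^ j ≤ 2 ^ n := by
        rw [show 4 * 2 ^ j = 2 ^ (j + 2) by ring]
        exact Nat.pow_le_pow_right two_pos (by omega)
      have := Nat.le_of_dvd (by omega) h3
      omega

end CfsgLib.Bender.Ext
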