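import Cfsg.Prelude.Def_Involutions
import Cfsg.Prelude.Def_EvenType
import Cfsg.Prelude.Def_LieRecognition
import Cfsg.Prelude.Def_Classical
import Cfsg.Prelude.Def_Sz
import Cfsg.Agent.Lib.StronglyEmbedded
import Cfsg.Agent.Lib.RankOne.Basic
import Cfsg.Agent.S0225

/-! Bender–Suzuki, part C: from a strongly embedded subgroup to the rank-one set-up. -/

set_option autoImplicit false
set_option linter.unusedSectionVars false
set_option linter.style.haveILetI false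

namespace CfsgLib.Bender

universe u

/-- `G` contains two distinct commuting involutions. -/
def HasFour (G : Type u) [Group G] : Prop :=
  ∃ x y : G, x ≠ 1 ∧ y ≠ 1 ∧ x ≠ y ∧ x * x = 1 ∧ y * y = 1 ∧ x * y = y * x

/-- The output of Bender's theorem for faithful actions of 2-rank at least two. -/
def BenderHyp : Prop :=
  ∀ (G : Type u) [Group G] [Finite G] (H : Subgroup G), Cfsg.IsStronglyEmbedded H → H.normalCore = ⊥ →
    HasFour G → ∃ Q : Subgroup G, Q ≤ H ∧ (Q.subgroupOf H).Normal ∧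
      (∀ g₁ g₂ : G, g₁ ∉ H → g₂ ∉ H → ∃ u ∈ Q, g₂⁻¹ * (u * g₁) ∈ H) ∧
      (∀ g : G, g ∉ H → ∀ u ∈ Q, g⁻¹ * (u * g) ∈ H → u = 1)

/-- The output of Suzuki's recognition theorem. -/
def SuzukiHyp : Prop :=
  ∀ (G Ω : Type u) [Group G] [Finite G] [MulAction G Ω] [FaithfulSMul G Ω] (a : Ω) (t : G)
    (Q : Subgroup G), Cfsg.IsRankOneSetup G Ω a t Q → HasFour G →
    ∃ L : Subgroup G, L.Normal ∧ Odd L.index ∧
      ((∃ (F : Type) (_ : Field F) (_ : Fintype F), (∃ n : ℕ, 2 ≤ n ∧ Fintype.card F = 2 ^ n) ∧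
          Nonempty (L ≃* Matrix.ProjectiveSpecialLinearGroup (Fin 2) F)) ∨
        Cfsg.Lie.IsoSuzuki L ∨
        (∃ (F : Type) (_ : Field F) (_ : Fintype F) (n : ℕ), 2 ≤ n ∧ Fintype.card F = (2 ^ n) ^ 2 ∧
          Nonempty (L ≃* Cfsg.PSU 3 F (2 ^ n))))

variable {G : Type u} [Group G] [Finite G] {H Q : Subgroup G}

theorem conj_mem_of {g h x : G} (hQH : Q ≤ H) (hn : (Q.subgroupOf H).Normal) (hh : h ∈ H)
    (hx : x ∈ Q) (hg : g = h * x * h⁻¹) : g ∈ Q := by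
  subst hg
  exact hn.conj_mem ⟨x, hQH hx⟩ hx ⟨h, hh⟩

theorem exists_invol_mem (hH : Cfsg.IsStronglyEmbedded H) : ∃ s ∈ H, s ≠ 1 ∧ s * s = 1 := by
  haveI : Fact (Nat.Prime 2) := ⟨Nat.prime_two⟩
  obtain ⟨z, hz⟩ := exists_prime_orderOf_dvd_card' (G := H) 2 hH.2.1.two_dvd
  refine ⟨z, z.2, fun e => ?_, ?_⟩
  · rw [← Subgroup.orderOf_coe, e, orderOf_one] at hz
    exact absurd hz (by norm_num)
  · have h := pow_orderOf_eq_one (z : G)
    rwa [Subgroup.orderOf_coe, hz, pow_two] at h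

theorem exists_invol_outside (hH : Cfsg.IsStronglyEmbedded H) :
    ∃ t : G, t ≠ 1 ∧ t * t = 1 ∧ t ∉ H := by
  obtain ⟨s, hsH, hs1, hs2⟩ := exists_invol_mem hH
  obtain ⟨g, -, hg⟩ := SetLike.exists_of_lt (lt_top_iff_ne_top.2 hH.1)
  refine ⟨g * s * g⁻¹, fun e => hs1 ?_, ?_, fun hm => ?_⟩
  · exact conj_eq_one_iff.1 e
  · rw [show g * s * g⁻¹ * (g * s * g⁻¹) = g * (s * s) * g⁻¹ by group, hs2]
    group
  · haveI : Fact (Nat.Prime 2) := ⟨Nat.prime_two⟩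
    have hne : g * s * g⁻¹ ≠ 1 := fun e => hs1 (conj_eq_one_iff.1 e)
    have ho : orderOf (g * s * g⁻¹) = 2 := orderOf_eq_prime (by
      rw [pow_two, show g * s * g⁻¹ * (g * s * g⁻¹) = g * (s * s) * g⁻¹ by group, hs2]
      group) hne
    refine Nat.not_even_iff_odd.2 (hH.2.2 g hg) (even_iff_two_dvd.2 ?_)
    rw [← ho]
    exact Subgroup.orderOf_dvd_natCard _ ⟨hm, s, hsH, rfl⟩

theorem stabilizer_one : MulAction.stabilizer G ((1 : G) : G ⧸ H) = H :=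
  MulAction.stabilizer_quotient H

theorem smul_mk (g x : G) : g • ((x : G) : G ⧸ H) = ((g * x : G) : G ⧸ H) := rfl

theorem mk_eq_one_iff {g : G} : ((g : G) : G ⧸ H) = ((1 : G) : G ⧸ H) ↔ g ∈ H := by
  rw [QuotientGroup.eq]
  simp

theorem mem_stab_mk {g x : G} :
    g ∈ MulAction.stabilizer G ((x : G) : G ⧸ H) ↔ x⁻¹ * (g * x) ∈ H := by
  rw [MulAction.mem_stabilizer_iff, smul_mk, eq_comm, QuotientGroup.eq]

theorem faithful (hc : H.normalCore = ⊥) : FaithfulSMul G (G ⧸ H) := by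
  refine ⟨fun {m₁ m₂} h => ?_⟩
  have : m₂⁻¹ * m₁ ∈ H.normalCore := by
    rw [Subgroup.normalCore_eq_ker, MonoidHom.mem_ker]
    refine Equiv.ext fun c => ?_
    change (m₂⁻¹ * m₁) • c = c
    rw [mul_smul, h c, inv_smul_smul]
  rw [hc, Subgroup.mem_bot, inv_mul_eq_one] at this
  exact this.symm

/-- The rank-one set-up on the cosets of a strongly embedded subgroup with a regular normal subgroup. -/
theorem setup (hH : Cfsg.IsStronglyEmbedded H) (hQH : Q ≤ H) (hQn : (Q.subgroupOf H).Normal)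
    (htrans : ∀ g₁ g₂ : G, g₁ ∉ H → g₂ ∉ H → ∃ u ∈ Q, g₂⁻¹ * (u * g₁) ∈ H)
    (hreg : ∀ g : G, g ∉ H → ∀ u ∈ Q, g⁻¹ * (u * g) ∈ H → u = 1) :
    ∃ t : G, t ∉ H ∧ Cfsg.IsRankOneSetup G (G ⧸ H) ((1 : G) : G ⧸ H) t Q := by
  obtain ⟨t, ht1, ht2, htH⟩ := exists_invol_outside hH
  have htinv : t⁻¹ = t := inv_eq_of_mul_eq_one_right ht2
  have hta : t • (((1 : G) : G ⧸ H)) = ((t : G) : G ⧸ H) := by rw [smul_mk, mul_one]
  have hmove : ∀ g : G, g ∉ H → ∃ u ∈ Q, u • ((t : G) : G ⧸ H) = ((g : G) : G ⧸ H) := fun g hg => by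
    obtain ⟨u, hu, h⟩ := htrans t g htH hg
    exact ⟨u, hu, by rw [smul_mk, eq_comm, QuotientGroup.eq]; exact h⟩
  have hfix : ∀ x ∈ H, x • (((1 : G) : G ⧸ H)) = ((1 : G) : G ⧸ H) := fun x hx => by
    rw [smul_mk, mul_one, mk_eq_one_iff]; exact hx
  have hD : MulAction.stabilizer G ((t : G) : G ⧸ H) = H.map (MulAut.conj t).toMonoidHom := by
    ext x
    rw [mem_stab_mk, Local.mem_map_conj]
    simp [mul_assoc]
  have hdec : ∀ h ∈ H, ∃ u ∈ Q, ∃ d ∈ H ⊓ H.map (MulAut.conj t).toMonoidHom, h = u * d := by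
    intro h hh
    obtain ⟨u, hu, e⟩ := hmove (h * t) (fun hm => htH (by simpa using H.mul_mem (H.inv_mem hh) hm))
    refine ⟨u, hu, u⁻¹ * h, ⟨H.mul_mem (H.inv_mem (hQH hu)) hh, ?_⟩, by group⟩
    rw [← hD]
    change (u⁻¹ * h) • ((t : G) : G ⧸ H) = _
    rw [mul_smul, smul_mk h t, ← e, inv_smul_smul]
  refine ⟨t, htH, ⟨?_, ht2, ht1, ?_, ?_, ?_, ?_, ?_, ?_, ?_⟩⟩
  · rw [MulAction.is_two_pretransitive_iff]
    intro a b c d hab hcd
    have key : ∀ p q : G ⧸ H, p ≠ q → ∃ g : G, g • (((1 : G) : G ⧸ H)) = p ∧ g • ((t : G) : G ⧸ H) = q := by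
      intro p q hpq
      obtain ⟨g, rfl⟩ := QuotientGroup.mk_surjective p
      obtain ⟨k, rfl⟩ := QuotientGroup.mk_surjective q
      have hk : g⁻¹ * k ∉ H := fun h => hpq (QuotientGroup.eq.2 h)
      obtain ⟨u, hu, e⟩ := hmove _ hk
      refine ⟨g * u, ?_, ?_⟩
      · rw [mul_smul, hfix u (hQH hu), smul_mk, mul_one]
      · rw [mul_smul, e, smul_mk, mul_inv_cancel_left]
    obtain ⟨g, hg1, hg2⟩ := key a b hab
    obtain ⟨k, hk1, hk2⟩ := key c d hcd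
    refine ⟨k * g⁻¹, ?_, ?_⟩
    · rw [mul_smul, ← hg1, inv_smul_smul, hk1]
    · rw [mul_smul, ← hg2, inv_smul_smul, hk2]
  · rwa [stabilizer_one]
  · rwa [stabilizer_one]
  · rw [stabilizer_one]
    exact fun h hh x hx => conj_mem_of hQH hQn hh hx rfl
  · rw [hta]
    refine (Subgroup.eq_bot_iff_forall _).2 fun x hx => hreg t htH x hx.1 ?_
    exact mem_stab_mk.1 hx.2
  · rw [stabilizer_one, hta, hD]
    refine le_antisymm (sup_le hQH inf_le_left) fun h hh => ?_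
    obtain ⟨u, hu, d, hd, rfl⟩ := hdec h hh
    exact Subgroup.mul_mem_sup hu hd
  · by_contra hodd
    have hQ : Odd (Nat.card Q) := Nat.not_even_iff_odd.1 hodd
    have hcard : Nat.card H = Nat.card Q * Nat.card ↥(H ⊓ H.map (MulAut.conj t).toMonoidHom) := by
      rw [← Nat.card_prod]
      refine (Nat.card_eq_of_bijective (fun p : Q × ↥(H ⊓ H.map (MulAut.conj t).toMonoidHom) =>
        (⟨(p.1 : G) * p.2, H.mul_mem (hQH p.1.2) p.2.2.1⟩ : H)) ⟨?_, ?_⟩).symm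
      · rintro ⟨u, d⟩ ⟨v, e⟩ he
        have h1 : (u : G) * d = v * e := congrArg Subtype.val he
        have h2 : (v : G)⁻¹ * u = e * (d : G)⁻¹ := by
          rw [inv_mul_eq_iff_eq_mul, ← mul_assoc, ← h1, mul_inv_cancel_right]
        have h3 : (v : G)⁻¹ * u = 1 := by
          refine hreg t htH _ (Q.mul_mem (Q.inv_mem v.2) u.2) ?_
          rw [h2, ← mem_stab_mk, hD]
          exact Subgroup.mul_mem _ e.2.2 (Subgroup.inv_mem _ d.2.2)
        have h4 : v = u := Subtype.ext (inv_mul_eq_one.1 h3)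
        subst h4
        exact Prod.ext rfl (Subtype.ext (mul_left_cancel h1))
      · rintro ⟨h, hh⟩
        obtain ⟨u, hu, d, hd, rfl⟩ := hdec h hh
        exact ⟨(⟨u, hu⟩, ⟨d, hd⟩), rfl⟩
    exact Nat.not_even_iff_odd.2 (hcard ▸ hQ.mul (hH.2.2 t htH)) hH.2.1
  · rw [stabilizer_one, hta, hD]
    exact hH.2.2 t htH

end CfsgLib.Bender
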