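import Cfsg.Agent.Lib.SingerPrime.Main
import Cfsg.Agent.Lib.SingerPrime.Over
import Cfsg.Agent.Lib.SingerFive.Main
import Cfsg.Agent.Lib.MaxSub.ExtLin.Main

/-!
# Overgroups of a binary Singer normaliser in prime dimension

Part A of Bender's theorem, steps R1 and A6: a subgroup of `GL_l(2)`, `l ≥ 5` prime, containing the
normaliser of a regular abelian subgroup is that normaliser or everything.  The work is done in
`Lib/SingerPrime` and `Lib/SingerFive`; here the binary statements are assembled.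
-/

set_option autoImplicit false
set_option linter.unusedSectionVars false
set_option linter.style.haveILetI false
set_option linter.deprecated false

namespace CfsgLib.Bender.LinearTrans

open Module Matrix
open CfsgLib.SingerFive (Sub pt exists_pt smul_pt pt_eq_pt PairTrans mulE mulE_apply autE autE_apply IsSemi)
open CfsgLib.MaxSub.ExtLin (TIn gmap gmap_apply gmap_det)

section field

variable {F : Type*} {L : Type*} [Field F] [Finite F] [Field L] [Algebra F L] [Finite L]

theorem eq_one_of_ne_zero (hq : Nat.card F = 2) {c : F} (hc : c ≠ 0) : c = 1 := by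
  haveI : Subsingleton Fˣ :=
    (Nat.card_eq_one_iff_unique.mp (by rw [Nat.card_units, hq] : Nat.card Fˣ = 1)).1
  exact congrArg Units.val (Subsingleton.elim (Units.mk0 c hc) 1)

theorem norm_eq_one (hq : Nat.card F = 2) (u : Lˣ) : Algebra.norm F (u : L) = 1 := by
  haveI : FiniteDimensional F L := Module.Finite.of_finite
  exact eq_one_of_ne_zero hq (Algebra.norm_ne_zero_iff.mpr u.ne_zero)

/-- All transvections generate everything over two elements. -/
theorem eq_top_of_transvections (hq : Nat.card F = 2) {M : Subgroup (L ≃ₗ[F] L)}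
    (hn : 2 ≤ finrank F L) (h : ∀ (u : L) (φ : Dual F L), φ u = 0 → TIn M u φ) : M = ⊤ := by
  classical
  haveI : Fintype F := Fintype.ofFinite F
  haveI : FiniteDimensional F L := Module.Finite.of_finite
  let e : L ≃ₗ[F] (Fin (finrank F L) → F) := (Module.finBasis F L).equivFun
  refine eq_top_iff.mpr fun g _ => ?_
  let g' : GL (Fin (finrank F L)) F := gmap.symm (e.symm.trans (g.trans e))
  have hg' : ∀ x, (g' : Matrix (Fin (finrank F L)) (Fin (finrank F L)) F) *ᵥ x = e (g (e.symm x)) := fun x => by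
    rw [← gmap_apply, MulEquiv.apply_symm_apply]; rfl
  have hd : (g' : Matrix (Fin (finrank F L)) (Fin (finrank F L)) F).det = 1 :=
    eq_one_of_ne_zero hq (c := (g' : Matrix (Fin (finrank F L)) (Fin (finrank F L)) F).det)
      ((Matrix.isUnit_iff_isUnit_det _).mp g'.isUnit).ne_zero
  let conj : GL (Fin (finrank F L)) F →* (L ≃ₗ[F] L) :=
    { toFun := fun a => e.trans ((gmap a).trans e.symm)
      map_one' := LinearEquiv.ext fun x => by simp
      map_mul' := fun a b => LinearEquiv.ext fun x => by simp }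
  let T : Subgroup (Matrix.SpecialLinearGroup (Fin (finrank F L)) F) :=
    M.comap (conj.comp (Matrix.SpecialLinearGroup.toGL :
      Matrix.SpecialLinearGroup (Fin (finrank F L)) F →* GL (Fin (finrank F L)) F))
  have hT : T = ⊤ := by
    rw [eq_top_iff, ← CfsgLib.StSL.closure_transvection_eq_top (K := F) (n := finrank F L) hn,
      Subgroup.closure_le]
    rintro _ ⟨i, j, hij, c, rfl⟩
    obtain ⟨t, ht, htx⟩ := h (e.symm (Pi.single i 1)) ((c • LinearMap.proj j) ∘ₗ e.toLinearMap)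
      (by simp [hij])
    show conj _ ∈ M
    suffices hh : conj (Matrix.SpecialLinearGroup.toGL (Matrix.SpecialLinearGroup.transvection hij c)) = t
      from hh ▸ ht
    refine LinearEquiv.ext fun x => e.injective ?_
    rw [htx, map_add, LinearMap.smulRight_apply, map_smul, e.apply_symm_apply]
    show e (e.symm (gmap _ (e x))) = _
    rw [e.apply_symm_apply, gmap_apply]
    show (Matrix.transvection i j c).mulVec (e x) = _
    rw [Matrix.transvection, Matrix.add_mulVec, Matrix.one_mulVec, Matrix.single_mulVec]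
    congr 1
    funext l
    simp [Pi.single_apply, Function.update_apply]
  let gs : Matrix.SpecialLinearGroup (Fin (finrank F L)) F :=
    ⟨(g' : Matrix (Fin (finrank F L)) (Fin (finrank F L)) F), hd⟩
  have hS : gs ∈ T := hT ▸ Subgroup.mem_top _
  have e1 : conj (Matrix.SpecialLinearGroup.toGL gs) = g :=
    LinearEquiv.ext fun x => e.injective (by
      show e (e.symm (gmap _ (e x))) = _
      rw [e.apply_symm_apply, gmap_apply]
      show (g' : Matrix (Fin (finrank F L)) (Fin (finrank F L)) F) *ᵥ e x = _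
      rw [hg', e.symm_apply_apply])
  exact e1 ▸ hS

/-- Transitivity on pairs of vectors is transitivity on pairs of points. -/
theorem pairTrans_of_vectors {M : Subgroup (L ≃ₗ[F] L)}
    (h : ∀ a b a' b' : L, a ≠ 0 → b ≠ 0 → a ≠ b → a' ≠ 0 → b' ≠ 0 → a' ≠ b' →
      ∃ g ∈ M, g a = a' ∧ g b = b') : PairTrans M := by
  intro P Q P' Q' hne hne'
  obtain ⟨a, ha, rfl⟩ := exists_pt P
  obtain ⟨b, hb, rfl⟩ := exists_pt Q
  obtain ⟨a', ha', rfl⟩ := exists_pt P'
  obtain ⟨b', hb', rfl⟩ := exists_pt Q'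
  obtain ⟨g, hg, rfl, rfl⟩ := h a b a' b' ha hb (fun e => hne (by subst e; rfl)) ha' hb'
    (fun e => hne' (by subst e; rfl))
  exact ⟨g, hg, smul_pt g a ha, smul_pt g b hb⟩

variable {M : Subgroup (L ≃ₗ[F] L)}

/-- A doubly transitive group containing the multiplications is everything (blueprint A6). -/
theorem top_of_pairTrans (hq : Nat.card F = 2) (h5 : 5 ≤ finrank F L) (hodd : Odd (finrank F L))
    (hmul : ∀ u : Lˣ, mulE u ∈ M) (h2 : PairTrans M) : M = ⊤ :=
  eq_top_of_transvections hq (by omega)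
    (CfsgLib.SingerPrime.all_of_pairs h2 h5 hodd fun u _ => hmul u)

/-- Overgroups of the semilinear group of degree one (R1 and A6). -/
theorem semi_or_top (hq : Nat.card F = 2) (hp : (finrank F L).Prime) (h5 : 5 ≤ finrank F L)
    (hmul : ∀ u : Lˣ, mulE u ∈ M) (haut : ∀ τ : L ≃ₐ[F] L, autE τ ∈ M) :
    (∀ g ∈ M, IsSemi g) ∨ M = ⊤ := by
  haveI : FiniteDimensional F L := Module.Finite.of_finite
  have hdet : ∀ g ∈ M, LinearMap.det (g : L →ₗ[F] L) = 1 := fun g _ =>
    eq_one_of_ne_zero hq (LinearEquiv.isUnit_det' g).ne_zero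
  refine Or.imp_right (top_of_pairTrans hq h5 (hp.odd_of_ne_two (by omega)) hmul) ?_
  by_cases h : finrank F L = 5
  · exact (CfsgLib.SingerFive.Over.mk h hdet (fun u _ => hmul u) haut).semi_or_pairs_two hq
  · have h6 : finrank F L ≠ 6 := fun e => by rw [e] at hp; norm_num at hp
    exact CfsgLib.SingerPrime.Singer.Over.semi_or_pairs ⟨hp, by omega, hdet, fun u _ => hmul u, haut⟩

/-- A map normalising the multiplications is semilinear. -/
theorem isSemi_of_normalizes {g : L ≃ₗ[F] L}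
    (h : ∀ u : Lˣ, ∃ u' : Lˣ, g * mulE u * g⁻¹ = mulE u') : IsSemi g := by
  have hg : ∀ u : Lˣ, ∃ u' : Lˣ, ∀ y, g ((u : L) * y) = (u' : L) * g y := fun u => by
    obtain ⟨u', hu⟩ := h u
    exact ⟨u', fun y => LinearEquiv.congr_fun (mul_inv_eq_iff_eq_mul.mp hu) y⟩
  have h1 : g 1 ≠ 0 := fun e => one_ne_zero (g.injective (e.trans (map_zero g).symm))
  let τ : L ≃ₗ[F] L := (mulE ((Units.mk0 (g 1) h1)⁻¹ : Lˣ) : L ≃ₗ[F] L) * g
  have hτ : ∀ y, τ y = (g 1)⁻¹ * g y := fun y => by
    show ((Units.mk0 (g 1) h1)⁻¹ : Lˣ).1 * g y = _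
    rw [Units.val_inv_eq_inv_val, Units.val_mk0]
  have hmul : ∀ a b : L, τ (a * b) = τ a * τ b := by
    intro a b
    by_cases ha : a = 0
    · simp [ha]
    obtain ⟨u', hu⟩ := hg (Units.mk0 a ha)
    have e := hu 1
    have e' := hu b
    rw [Units.val_mk0, mul_one] at e
    rw [Units.val_mk0] at e'
    rw [hτ, hτ, hτ, e', e]
    field_simp
  refine ⟨Units.mk0 (g 1) h1, AlgEquiv.ofLinearEquiv τ (by rw [hτ, inv_mul_cancel₀ h1]) hmul,
    LinearEquiv.ext fun y => ?_⟩
  show g y = g 1 * τ y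
  rw [hτ, mul_inv_cancel_left₀ h1]

end field

section abstract

variable {V : Type*} [AddCommGroup V] [Module (ZMod 2) V] [Finite V] {l : ℕ}

/-- A subgroup of `GL_l(2)`, `l ≥ 5` prime, containing the normaliser of a regular abelian
subgroup `C` is contained in that normaliser or is everything. -/
theorem le_normalizer_or_top (hl : finrank (ZMod 2) V = l) (hp : l.Prime) (h5 : 5 ≤ l)
    {C : Subgroup (V ≃ₗ[ZMod 2] V)} (hcomm : ∀ a ∈ C, ∀ b ∈ C, a * b = b * a)
    (htr : ∀ v w : V, v ≠ 0 → w ≠ 0 → ∃ a ∈ C, a v = w)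
    {G : Subgroup (V ≃ₗ[ZMod 2] V)} (hC : C ≤ G) {x : V ≃ₗ[ZMod 2] V} (hxG : x ∈ G)
    (hxN : x ∈ Subgroup.normalizer (C : Set (V ≃ₗ[ZMod 2] V))) (hxC : x ∉ C) :
    G ≤ Subgroup.normalizer (C : Set (V ≃ₗ[ZMod 2] V)) ∨ G = ⊤ := by
  classical
  haveI : Fact (Nat.Prime 2) := ⟨Nat.prime_two⟩
  haveI : Nontrivial V := Module.nontrivial_of_finrank_pos (R := ZMod 2) (by omega)
  obtain ⟨v₀, hv₀⟩ := exists_ne (0 : V)
  -- the field spanned by `C`
  let S : Set (Module.End (ZMod 2) V) := (fun a : V ≃ₗ[ZMod 2] V => (a : Module.End (ZMod 2) V)) '' C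
  have hS : ∀ x ∈ S, ∀ y ∈ S, x * y = y * x := by
    rintro _ ⟨a, ha, rfl⟩ _ ⟨b, hb, rfl⟩
    exact congrArg LinearEquiv.toLinearMap (hcomm a ha b hb)
  let K := Algebra.adjoin (ZMod 2) S
  letI : CommRing K := Algebra.adjoinCommRingOfComm (ZMod 2) hS
  have hKc : ∀ (k : K) (a : V ≃ₗ[ZMod 2] V), a ∈ C → ∀ v, (k : Module.End (ZMod 2) V) (a v) = a ((k : Module.End (ZMod 2) V) v) := by
    intro k a ha v
    have h := congrArg Subtype.val (mul_comm k ⟨_, Algebra.subset_adjoin ⟨a, ha, rfl⟩⟩)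
    exact LinearMap.congr_fun h v
  let ev : K →ₗ[ZMod 2] V :=
    { toFun := fun k => (k : Module.End (ZMod 2) V) v₀
      map_add' := fun a b => rfl
      map_smul' := fun c a => rfl }
  have hev : ∀ k : K, ev k = (k : Module.End (ZMod 2) V) v₀ := fun k => rfl
  have hinj : Function.Injective ev := by
    intro j k h
    refine Subtype.ext (LinearMap.ext fun v => ?_)
    by_cases hv : v = 0
    · rw [hv, map_zero, map_zero]
    · obtain ⟨a, ha, rfl⟩ := htr v₀ v hv₀ hv
      rw [hKc j a ha, hKc k a ha, ← hev, ← hev, h]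
  let unitOf : C → K := fun a => ⟨_, Algebra.subset_adjoin ⟨a.1, a.2, rfl⟩⟩
  have hne : ∀ k : K, k ≠ 0 → ∃ a : C, k = unitOf a := by
    intro k hk
    obtain ⟨a, ha, e⟩ := htr v₀ (ev k) hv₀ fun h => hk (hinj (h.trans ev.map_zero.symm))
    exact ⟨⟨a, ha⟩, hinj e.symm⟩
  haveI : Nontrivial K := ⟨⟨0, 1, fun h => hv₀ (congrArg ev h).symm⟩⟩
  have hfield : IsField K := ⟨⟨0, 1, zero_ne_one⟩, mul_comm, fun {k} hk => by
    obtain ⟨a, rfl⟩ := hne k hk
    exact ⟨unitOf a⁻¹, Subtype.ext (LinearMap.ext fun v => (a : V ≃ₗ[ZMod 2] V).apply_symm_apply v)⟩⟩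
  letI : Field K := hfield.toField
  have hsurj : Function.Surjective ev := fun w => by
    by_cases hw : w = 0
    · exact ⟨0, by rw [hw]; exact ev.map_zero⟩
    · obtain ⟨a, ha, rfl⟩ := htr v₀ w hv₀ hw
      exact ⟨unitOf ⟨a, ha⟩, rfl⟩
  let e : K ≃ₗ[ZMod 2] V := LinearEquiv.ofBijective ev ⟨hinj, hsurj⟩
  haveI : Finite K := Finite.of_injective e e.injective
  let conj : (K ≃ₗ[ZMod 2] K) ≃* (V ≃ₗ[ZMod 2] V) :=
    { toFun := fun f => e.symm.trans (f.trans e)
      invFun := fun f => e.trans (f.trans e.symm)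
      left_inv := fun f => LinearEquiv.ext fun x => by simp
      right_inv := fun f => LinearEquiv.ext fun x => by simp
      map_mul' := fun f g => LinearEquiv.ext fun x => by simp }
  have hconj : ∀ (f : K ≃ₗ[ZMod 2] K) (x : K), conj f (e x) = e (f x) := fun f x => by
    show e (f (e.symm (e x))) = _
    rw [e.symm_apply_apply]
  have hmulC : ∀ u : Kˣ, conj (mulE u) ∈ C := by
    intro u
    obtain ⟨⟨a, ha⟩, hu⟩ := hne u u.ne_zero
    have : conj (mulE u) = a := LinearEquiv.ext fun v => by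
      obtain ⟨x, rfl⟩ := e.surjective v
      rw [hconj, mulE_apply, hu]
      rfl
    exact this ▸ ha
  have hCmul : ∀ a ∈ C, ∃ u : Kˣ, conj (mulE u) = a := by
    intro a ha
    have h0 : unitOf ⟨a, ha⟩ ≠ 0 := fun h => hv₀ (a.injective (by
      rw [map_zero]; exact congrArg ev h))
    refine ⟨Units.mk0 _ h0, LinearEquiv.ext fun v => ?_⟩
    obtain ⟨x, rfl⟩ := e.surjective v
    rw [hconj, mulE_apply, Units.val_mk0]
    rfl
  have haut : ∀ (τ : K ≃ₐ[ZMod 2] K), ∀ a ∈ C, conj (autE τ) * a * (conj (autE τ))⁻¹ ∈ C := by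
    intro τ a ha
    obtain ⟨u, rfl⟩ := hCmul a ha
    have : (autE τ * mulE u * (autE τ)⁻¹ : K ≃ₗ[ZMod 2] K) = mulE (Units.map (τ : K →* K) u) :=
      mul_inv_eq_iff_eq_mul.mpr (LinearEquiv.ext fun x => map_mul τ (u : K) x)
    rw [← map_inv, ← map_mul, ← map_mul, this]
    exact hmulC _
  have hnorm : ∀ f : K ≃ₗ[ZMod 2] K, IsSemi f → conj f ∈ Subgroup.normalizer (C : Set (V ≃ₗ[ZMod 2] V)) := by
    rintro _ ⟨c, τ, rfl⟩
    rw [map_mul]
    refine mul_mem (Subgroup.le_normalizer (hmulC c))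
      (Subgroup.mem_normalizer_iff.mpr fun a => ⟨haut τ a, fun ha => ?_⟩)
    have h := haut τ⁻¹ _ ha
    rw [map_inv, map_inv] at h
    simpa [mul_assoc] using h
  have hd : finrank (ZMod 2) K = l := by rw [e.finrank_eq, hl]
  obtain ⟨c, σ, hσ⟩ : IsSemi (conj.symm x) := isSemi_of_normalizes fun u => by
    obtain ⟨u', hu'⟩ := hCmul _ ((Subgroup.mem_normalizer_iff.mp hxN _).mp (hmulC u))
    exact ⟨u', conj.injective (by rw [map_mul, map_mul, map_inv, conj.apply_symm_apply, hu'])⟩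
  have hσM : conj (autE σ) ∈ G := by
    have e : conj (autE σ) = (conj (mulE c))⁻¹ * x := by
      rw [← conj.apply_symm_apply x, hσ, map_mul, inv_mul_cancel_left]
    rw [e]
    exact mul_mem (inv_mem (hC (hmulC c))) hxG
  have hσ1 : σ ≠ 1 := fun h => hxC (by
    rw [← conj.apply_symm_apply x, hσ, h, map_one, mul_one]
    exact hmulC c)
  haveI : FiniteDimensional (ZMod 2) K := Module.Finite.of_finite
  haveI : Fact l.Prime := ⟨hp⟩
  have hcard : Nat.card (K ≃ₐ[ZMod 2] K) = l := by rw [IsGalois.card_aut_eq_finrank, hd]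
  have hall : ∀ τ : K ≃ₐ[ZMod 2] K, autE τ ∈ G.comap conj.toMonoidHom := fun τ => by
    obtain ⟨i, rfl⟩ := Subgroup.mem_zpowers_iff.mp (mem_zpowers_of_prime_card (g' := τ) hcard hσ1)
    rw [map_zpow]
    exact zpow_mem (K := G.comap conj.toMonoidHom) hσM i
  rcases semi_or_top (M := G.comap conj.toMonoidHom) (Nat.card_zmod 2) (hd ▸ hp) (hd ▸ h5)
      (fun u => hC (hmulC u)) hall with h | h
  · refine Or.inl fun g hg => ?_
    have := hnorm (conj.symm g) (h _ (by show conj (conj.symm g) ∈ G; rwa [conj.apply_symm_apply]))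
    rwa [conj.apply_symm_apply] at this
  · refine Or.inr (eq_top_iff.mpr fun g _ => ?_)
    have : conj.symm g ∈ G.comap conj.toMonoidHom := h ▸ Subgroup.mem_top _
    simpa using this

end abstract

end CfsgLib.Bender.LinearTrans
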