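import Cfsg.Agent.Lib.Bender.Assembly
import Cfsg.Agent.Lib.Bender.FromB1.Comm.Main

/-!
Bender's theorem on one-fix actions from the non-commuting case: an element of rank one forces the involutions at
its fixed point to commute.
-/

set_option autoImplicit false
set_option linter.unusedSectionVars false

namespace CfsgLib.Bender.Assembly

open MulAction Cfsg CfsgLib.Bender CfsgLib.Bender.TwoClosed

universe u

/-- The statement of the non-commuting case. -/
def CommHyp : Prop :=
  ∀ (G Ω : Type u) [Group G] [Finite G] [MulAction G Ω] [FaithfulSMul G Ω], OneFix G Ω → NoBad G Ω →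
    B1.Below.{u} (Nat.card G) → ¬ B1.Good G Ω → ∀ (a b : Ω) (x : G), b ≠ a → x ∈ two a b → (orderOf x).Prime →
      OneFix.Third a b x → ¬ B1.FourIn (Subgroup.centralizer (Subgroup.zpowers x : Set G)) → OneFix.CommAt G a

/-- The minimal counterexample does not exist. -/
theorem good_of_below (hC : CommHyp.{u}) {G Ω : Type u} [Group G] [Finite G] [MulAction G Ω] [FaithfulSMul G Ω]
    (hF : OneFix G Ω) (hBel : B1.Below.{u} (Nat.card G)) : B1.Good G Ω := by
  by_contra hnG
  have hNB := B1.noBad_of_below hF hBel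
  obtain ⟨i, hi⟩ := OneFix.exists_inv hF
  obtain ⟨a, -⟩ := OneFix.exists_fix hF hi
  obtain ⟨b, hab⟩ := OneFix.exists_ne hF a
  obtain ⟨y, hy, hp, h3, h4⟩ := OneFix.exists_rankOne hF hNB hBel hnG hab
  exact OneFix.not_comm_of_rankOne hF hNB hBel hnG hab hy hp h3 h4 (hC G Ω hF hNB hBel hnG a b y hab hy hp h3 h4)

/-- Bender's theorem from the non-commuting case. -/
theorem goodAll_of_commHyp (hC : CommHyp.{u}) : GoodAll.{u} :=
  goodAll_of_step fun _ _ _ _ _ _ hF hBel => good_of_below hC hF hBel

end CfsgLib.Bender.Assembly
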