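import Cfsg.Agent.Lib.RankOne.Structure
import Cfsg.Agent.Lib.AfterFT.RankOne
import Cfsg.Agent.S1131
import Cfsg.Agent.S1122
import Cfsg.Agent.S0727
import Cfsg.Agent.S0265
import Cfsg.Agent.Lib.PrimeGraphExt
import Cfsg.Agent.Lib.Local

/-! Suzuki's recognition of split rank one groups: the case of an elementary abelian `Q`. -/

set_option autoImplicit false
set_option linter.unusedSectionVars false
set_option linter.style.haveILetI false

namespace CfsgLib.Bender.RecogLinear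

open MulAction Cfsg CfsgLib.RankOne

universe u v

variable {G : Type u} {Ω : Type v} [Group G] [Finite G] [MulAction G Ω] [FaithfulSMul G Ω] {a : Ω} {t : G}
  {Q : Subgroup G} (hS : IsRankOneSetup G Ω a t Q)

include hS

/-- Two distinct commuting involutions give two distinct involutions in `Q`. -/
theorem two_lt_card_Q
    (h2 : ∃ x y : G, x ≠ 1 ∧ y ≠ 1 ∧ x ≠ y ∧ x * x = 1 ∧ y * y = 1 ∧ x * y = y * x) :
    2 < Nat.card Q := by
  obtain ⟨x, y, hx, hy, hxy, hx2, hy2, hc⟩ := h2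
  obtain ⟨c, hxc⟩ := exists_fix hS hx hx2
  have hyc := not_fix_of_commute hS hx hx2 hxc hc
  haveI := pretransitive hS
  obtain ⟨g, hg⟩ := exists_smul_eq G a c
  have hmem : ∀ z : G, z * z = 1 → z • c = c → g⁻¹ * z * g ∈ Q := by
    intro z hz2 hzc
    refine invol_mem_Q hS ?_ ?_
    · rw [mul_smul, mul_smul, hg, hzc, ← hg, inv_smul_smul]
    · rw [show g⁻¹ * z * g * (g⁻¹ * z * g) = g⁻¹ * (z * z) * g by group, hz2, mul_one, inv_mul_cancel]
  let f : Fin 3 → Q := ![1, ⟨_, hmem x hx2 hxc⟩, ⟨_, hmem y hy2 hyc⟩]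
  have hf : Function.Injective f := by
    intro i j hij
    fin_cases i <;> fin_cases j <;> simp [f, Subtype.ext_iff] at hij ⊢
    · exact hx (by simpa [mul_assoc] using congrArg (fun z => g * z * g⁻¹) hij.symm)
    · exact hy (by simpa [mul_assoc] using congrArg (fun z => g * z * g⁻¹) hij.symm)
    · exact hx (by simpa [mul_assoc] using congrArg (fun z => g * z * g⁻¹) hij)
    · exact hxy hij
    · exact hy (by simpa [mul_assoc] using congrArg (fun z => g * z * g⁻¹) hij)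
    · exact hxy hij.symm
  have h := Nat.card_le_card_of_injective f hf
  rw [Nat.card_fin] at h
  omega

theorem recognition_linear
    (h2 : ∃ x y : G, x ≠ 1 ∧ y ≠ 1 ∧ x ≠ y ∧ x * x = 1 ∧ y * y = 1 ∧ x * y = y * x)
    (hQ : ∀ x ∈ Q, x * x = 1) :
    ∃ L : Subgroup G, L.Normal ∧ Odd L.index ∧
      ∃ (F : Type) (_ : Field F) (_ : Fintype F), (∃ n : ℕ, 2 ≤ n ∧ Fintype.card F = 2 ^ n) ∧
        Nonempty (L ≃* Matrix.ProjectiveSpecialLinearGroup (Fin 2) F) := by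
  classical
  haveI := finite_points hS
  letI := Fintype.ofFinite Ω
  have ht := hS.mul_self
  have hti : t⁻¹ = t := inv_t hS
  obtain ⟨C, hC, -, hCn⟩ := Cfsg.Agent.S1131.result hS h2
  have hCmem : ∀ {k : G}, k ∈ C ↔ k ∈ invertedBy (D a t) t := fun {k} => by
    rw [← SetLike.mem_coe, hC]
  have hCD : ∀ k ∈ C, k ∈ D a t := fun k hk => (hCmem.1 hk).1
  have hCa : ∀ k ∈ C, k • a = a := fun k hk => ((mem_D hS).1 (hCD k hk)).1
  have hCb : ∀ k ∈ C, k • t • a = t • a := fun k hk => ((mem_D hS).1 (hCD k hk)).2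
  have hCt : ∀ k ∈ C, t * k = k⁻¹ * t := fun k hk => by
    rw [← (hCmem.1 hk).2, hti]
    simp [mul_assoc, ht]
  have hQI : ∀ x : G, x ∈ involutionsIn (stabilizer G a : Set G) ↔ x ∈ Q ∧ x ≠ 1 := fun x =>
    ⟨fun h => ⟨invol_mem_Q hS h.1 h.2.2, h.2.1⟩, fun h => ⟨hS.le h.1, h.2, hQ x h.1⟩⟩
  obtain ⟨hcardC, htransC⟩ := Cfsg.Agent.S1122.result hS
  have hconj : ∀ x ∈ Q, x ≠ 1 → ∀ y ∈ Q, y ≠ 1 → ∃ k ∈ C, k * x * k⁻¹ = y := by
    intro x hx hx1 y hy hy1
    obtain ⟨k, hk, e⟩ := htransC x ((hQI x).2 ⟨hx, hx1⟩) y ((hQI y).2 ⟨hy, hy1⟩)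
    exact ⟨k⁻¹, C.inv_mem (hCmem.2 hk), by rw [inv_inv]; exact e⟩
  have hfree : ∀ x ∈ Q, x ≠ 1 → ∀ k ∈ C, k * x * k⁻¹ = x → k = 1 := by
    intro x hx hx1
    have hmem : ∀ k : C, (k : G) * x * (k : G)⁻¹ ∈ involutionsIn (stabilizer G a : Set G) := fun k =>
      (hQI _).2 ⟨conj_Q hS (hCa k k.2) hx, fun e => hx1 (conj_eq_one_iff.1 e)⟩
    let f : C → involutionsIn (stabilizer G a : Set G) := fun k => ⟨_, hmem k⟩
    have hsur : Function.Surjective f := fun y => by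
      obtain ⟨k, hk, e⟩ := hconj x hx hx1 y ((hQI _).1 y.2).1 ((hQI _).1 y.2).2
      exact ⟨⟨k, hk⟩, Subtype.ext e⟩
    have hcard : Nat.card C = Nat.card (involutionsIn (stabilizer G a : Set G)) := by
      rw [← hcardC]
      exact Nat.card_congr (Equiv.setCongr hC)
    have hinj : Function.Injective f :=
      ((Nat.bijective_iff_surjective_and_card f).2 ⟨hsur, hcard⟩).1
    intro k hk e
    exact congrArg Subtype.val (hinj (a₁ := ⟨k, hk⟩) (a₂ := (1 : C)) (Subtype.ext (by simpa [f] using e)))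
  obtain ⟨⟨s, r⟩, ⟨hs, hr, he⟩, -⟩ := structure_eq hS
  obtain ⟨hsQ, hs1⟩ := (hQI s).1 hs
  -- the point stabiliser and the big cell of the subgroup to be constructed
  let InP : G → Prop := fun g => ∃ x ∈ Q, ∃ k ∈ C, g = x * k
  have hP_mulQ : ∀ g y, InP g → y ∈ Q → InP (g * y) := by
    rintro g y ⟨x, hx, k, hk, rfl⟩ hy
    exact ⟨x * (k * y * k⁻¹), Q.mul_mem hx (conj_Q hS (hCa k hk) hy), k, hk, by group⟩
  have hP_mulC : ∀ g l, InP g → l ∈ C → InP (g * l) := by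
    rintro g l ⟨x, hx, k, hk, rfl⟩ hl
    exact ⟨x, hx, k * l, C.mul_mem hk hl, by group⟩
  let S : G → Prop := fun g => InP g ∨ ∃ p, InP p ∧ ∃ y ∈ Q, g = p * t * y
  have hS_Q : ∀ g y, S g → y ∈ Q → S (g * y) := by
    rintro g y (hg | ⟨p, hp, z, hz, rfl⟩) hy
    · exact Or.inl (hP_mulQ g y hg hy)
    · exact Or.inr ⟨p, hp, z * y, Q.mul_mem hz hy, by group⟩
  have hS_C : ∀ g l, S g → l ∈ C → S (g * l) := by
    rintro g l (hg | ⟨p, hp, z, hz, rfl⟩) hl
    · exact Or.inl (hP_mulC g l hg hl)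
    · refine Or.inr ⟨p * l⁻¹, hP_mulC p _ hp (C.inv_mem hl), l⁻¹ * z * l, conj_Q' hS (hCa l hl) hz, ?_⟩
      rw [show p * l⁻¹ * t * (l⁻¹ * z * l) = p * (l⁻¹ * t) * (l⁻¹ * z * l) by group, ← hCt l hl]
      group
  have hS_t : ∀ g, S g → S (g * t) := by
    rintro g (hg | ⟨p, hp, z, hz, rfl⟩)
    · exact Or.inr ⟨g, hg, 1, Q.one_mem, (mul_one _).symm⟩
    by_cases hz1 : z = 1
    · refine Or.inl ?_
      rw [hz1, mul_one, mul_assoc, ht, mul_one]
      exact hp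
    · obtain ⟨k, hk, rfl⟩ := hconj s hsQ hs1 z hz hz1
      refine Or.inr ⟨p * (k⁻¹ * r⁻¹ * k⁻¹), ?_, k⁻¹ * r * k, conj_Q' hS (hCa k hk) hr, ?_⟩
      · rw [show p * (k⁻¹ * r⁻¹ * k⁻¹) = p * k⁻¹ * r⁻¹ * k⁻¹ by group]
        exact hP_mulC _ _ (hP_mulQ _ _ (hP_mulC p _ hp (C.inv_mem hk)) (Q.inv_mem hr)) (C.inv_mem hk)
      · have h1 := hCt k hk
        have h2' : k⁻¹ * t = t * k := h1.symm
        have h3 : k * t = t * k⁻¹ := by
          have := hCt k⁻¹ (C.inv_mem hk)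
          rwa [inv_inv, eq_comm] at this
        calc p * t * (k * s * k⁻¹) * t = p * (t * k) * s * (k⁻¹ * t) := by group
          _ = p * (k⁻¹ * t) * s * (t * k) := by rw [h1, h2']
          _ = p * k⁻¹ * (t * s * t) * k := by group
          _ = p * (k⁻¹ * r⁻¹) * t * (r * k) := by rw [he]; group
          _ = p * (k⁻¹ * r⁻¹ * k⁻¹) * (k * t) * (r * k) := by group
          _ = p * (k⁻¹ * r⁻¹ * k⁻¹) * t * (k⁻¹ * r * k) := by rw [h3]; group
  let gens : Set G := (Q : Set G) ∪ (C : Set G) ∪ {t}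
  let L := Subgroup.closure gens
  have hQL : Q ≤ L := fun x hx => Subgroup.subset_closure (Or.inl (Or.inl hx))
  have hCL : C ≤ L := fun x hx => Subgroup.subset_closure (Or.inl (Or.inr hx))
  have htL : t ∈ L := Subgroup.subset_closure (Or.inr rfl)
  have hstep : ∀ g y, S g → y ∈ gens → S (g * y) := by
    rintro g y hg ((hy | hy) | hy)
    · exact hS_Q g y hg hy
    · exact hS_C g y hg hy
    · exact (Set.mem_singleton_iff.1 hy) ▸ hS_t g hg
  have hL : ∀ g ∈ L, S g := by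
    intro g hg
    induction hg using Subgroup.closure_induction_right with
    | one => exact Or.inl ⟨1, Q.one_mem, 1, C.one_mem, (mul_one _).symm⟩
    | mul_right x _ y hy ih => exact hstep x y ih hy
    | mul_inv_cancel x _ y hy ih =>
      refine hstep x y⁻¹ ih ?_
      rcases hy with (hy | hy) | hy
      · exact Or.inl (Or.inl (Q.inv_mem hy))
      · exact Or.inl (Or.inr (C.inv_mem hy))
      · exact Or.inr (by rw [Set.mem_singleton_iff.1 hy]; exact hti)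
  have hstab : ∀ g ∈ L, g • a = a → ∃ x ∈ Q, ∃ k ∈ C, g = x * k := by
    intro g hg hga
    rcases hL g hg with h | ⟨p, ⟨x, hx, k, hk, rfl⟩, y, hy, rfl⟩
    · exact h
    · exfalso
      rw [mul_smul, mul_smul, mem_Q_a hS hy, mul_smul, hCb k hk] at hga
      exact ta_ne hS (smul_left_cancel x (hga.trans (mem_Q_a hS hx).symm))
  have hDn : ∀ d ∈ D a t, d ∈ Subgroup.normalizer (L : Set G) := by
    intro d hd
    have hda := ((mem_D hS).1 hd).1
    have hgen : gens ⊆ (L.comap (MulAut.conj d).toMonoidHom : Subgroup G) := by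
      rintro y ((hy | hy) | hy)
      · exact hQL (conj_Q hS hda hy)
      · exact hCL (hCn d hd y hy)
      · rw [Set.mem_singleton_iff.1 hy]
        show d * t * d⁻¹ ∈ L
        have he' : t * d * t * d⁻¹ ∈ C := by
          refine hCmem.2 ⟨mul_mem (t_conj_D hS hd) (inv_mem hd), ?_⟩
          show t * (t * d * t * d⁻¹) * t⁻¹ = (t * d * t * d⁻¹)⁻¹
          rw [mul_inv_rev, mul_inv_rev, mul_inv_rev, inv_inv, hti]
          simp [mul_assoc, ← mul_assoc t t, ht]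
        rw [show d * t * d⁻¹ = t * (t * d * t * d⁻¹) by simp [mul_assoc, ← mul_assoc t t, ht]]
        exact L.mul_mem htL (hCL he')
    refine Local.mem_normalizer_of_map_conj_eq (Subgroup.eq_of_le_of_card_ge ?_ ?_)
    · rw [Subgroup.map_le_iff_le_comap]
      exact (Subgroup.closure_le _).2 hgen
    · exact (Subgroup.card_map_of_injective (MulAut.conj d).injective).ge
  have hLle : L ≤ Subgroup.normalizer (L : Set G) := Subgroup.le_normalizer
  have hstabn : ∀ g : G, g • a = a → g ∈ Subgroup.normalizer (L : Set G) := fun g hg => by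
    obtain ⟨x, hx, d, hd, rfl⟩ := exists_decomp hS hg
    exact mul_mem (hLle (hQL hx)) (hDn d hd)
  haveI hLn : L.Normal := Subgroup.normalizer_eq_top_iff.1 <| eq_top_iff.2 fun g _ => by
    by_cases hga : g • a = a
    · exact hstabn g hga
    · obtain ⟨p, y, hp, hy, rfl⟩ := exists_form hS hga
      exact mul_mem (mul_mem (hstabn p hp) (hLle htL)) (hLle (hQL hy))
  have hodd : Odd L.index := by
    obtain ⟨P, hPQ⟩ := exists_sylow_le hS
    haveI : Fact (Nat.Prime 2) := ⟨Nat.prime_two⟩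
    exact (Nat.not_even_iff_odd.1 fun e => P.not_dvd_index e.two_dvd).of_dvd_nat
      (Subgroup.index_dvd_of_le (hPQ.trans hQL))
  refine ⟨L, hLn, hodd, ?_⟩
  -- three-transitivity
  obtain ⟨x₀, hx₀, hx₀1⟩ : ∃ x ∈ Q, x ≠ (1 : G) := ⟨s, hsQ, hs1⟩
  have hne : ∀ x ∈ Q, x • t • a ≠ a := fun x hx e =>
    ta_ne hS (smul_left_cancel x (e.trans (mem_Q_a hS hx).symm))
  set c₀ := x₀ • t • a with hc₀
  have hc₀a : c₀ ≠ a := hne x₀ hx₀
  have hc₀b : c₀ ≠ t • a := fun e => hx₀1 (eq_one_of_fix_ta hS hx₀ e)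
  have hmove : ∀ p q w : Ω, p ≠ q → p ≠ w → q ≠ w →
      ∃ g ∈ L, g • a = p ∧ g • t • a = q ∧ g • c₀ = w := by
    intro p q w hpq hpw hqw
    obtain ⟨g₁, hg₁, e₁⟩ : ∃ g ∈ L, g • a = p := by
      by_cases hp : p = a
      · exact ⟨1, L.one_mem, by rw [hp, one_smul]⟩
      · obtain ⟨x, hx, e⟩ := exists_Q_ta hS hp
        exact ⟨x * t, L.mul_mem (hQL hx) htL, by rw [mul_smul, e]⟩
    obtain ⟨x, hx, e₂⟩ := exists_Q_ta hS (c := g₁⁻¹ • q) (fun e => hpq (by rw [← e₁, ← e, smul_inv_smul]))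
    have ea : (g₁ * x) • a = p := by rw [mul_smul, mem_Q_a hS hx, e₁]
    have eb : (g₁ * x) • t • a = q := by rw [mul_smul, e₂, smul_inv_smul]
    obtain ⟨y, hy, e₃⟩ := exists_Q_ta hS (c := (g₁ * x)⁻¹ • w)
      (fun e => hpw (by rw [← ea, ← e, smul_inv_smul]))
    have hy1 : y ≠ 1 := fun e => hqw (by rw [e, one_smul] at e₃; rw [← eb, e₃, smul_inv_smul])
    obtain ⟨k, hk, e₄⟩ := hconj x₀ hx₀ hx₀1 y hy hy1
    refine ⟨g₁ * x * k, L.mul_mem (L.mul_mem hg₁ (hQL hx)) (hCL hk), ?_, ?_, ?_⟩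
    · rw [mul_smul, hCa k hk, ea]
    · rw [mul_smul, hCb k hk, eb]
    · have : k • c₀ = y • t • a := by
        rw [hc₀, ← e₄]
        conv_rhs => rw [mul_smul, inv_smul_eq_iff.2 (hCb k hk).symm, mul_smul]
      rw [mul_smul, this, e₃, smul_inv_smul]
  have hfix : ∀ g ∈ L, g • a = a → g • t • a = t • a → g • c₀ = c₀ → g = 1 := by
    intro g hg h1 h2' h3
    obtain ⟨x, hx, k, hk, rfl⟩ := hstab g hg h1
    rw [mul_smul, hCb k hk] at h2'
    have := eq_one_of_fix_ta hS hx h2'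
    subst this
    rw [one_mul] at h3 ⊢
    refine hfree x₀ hx₀ hx₀1 k hk (Q_ta_inj hS (conj_Q hS (hCa k hk) hx₀) hx₀ ?_)
    rw [mul_smul, inv_smul_eq_iff.2 (hCb k hk).symm, mul_smul]
    exact h3
  let φ : L →* Equiv.Perm Ω := MulAction.toPermHom L Ω
  have hinj : Function.Injective φ := fun g h e => Subtype.ext
    (eq_of_smul_eq_smul fun x : Ω => DFunLike.congr_fun e x)
  have hd3 : ∀ x : Fin 3 ↪ Ω, x 0 ≠ x 1 ∧ x 0 ≠ x 2 ∧ x 1 ≠ x 2 := fun x =>
    ⟨x.injective.ne (by decide), x.injective.ne (by decide), x.injective.ne (by decide)⟩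
  have h3 : MulAction.IsMultiplyPretransitive φ.range Ω 3 := by
    refine ⟨fun x y => ?_⟩
    obtain ⟨g, hg, ga, gb, gc⟩ := hmove _ _ _ (hd3 x).1 (hd3 x).2.1 (hd3 x).2.2
    obtain ⟨h, hh, ha', hb', hc'⟩ := hmove _ _ _ (hd3 y).1 (hd3 y).2.1 (hd3 y).2.2
    refine ⟨⟨φ ⟨h * g⁻¹, L.mul_mem hh (L.inv_mem hg)⟩, _, rfl⟩, Function.Embedding.ext fun i => ?_⟩
    show (h * g⁻¹) • x i = y i
    fin_cases i
    · show (h * g⁻¹) • x 0 = y 0
      rw [mul_smul, ← ga, inv_smul_smul, ha']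
    · show (h * g⁻¹) • x 1 = y 1
      rw [mul_smul, ← gb, inv_smul_smul, hb']
    · show (h * g⁻¹) • x 2 = y 2
      rw [mul_smul, ← gc, inv_smul_smul, hc']
  have hsharp : ∀ x : Fin 3 ↪ Ω, MulAction.stabilizer φ.range x = ⊥ := by
    intro x
    rw [Subgroup.eq_bot_iff_forall]
    rintro ⟨_, ⟨g, hgL⟩, rfl⟩ hg
    have hgi : ∀ i, g • x i = x i := fun i => DFunLike.congr_fun (mem_stabilizer_iff.1 hg) i
    obtain ⟨h, hh, ha', hb', hc'⟩ := hmove _ _ _ (hd3 x).1 (hd3 x).2.1 (hd3 x).2.2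
    have h1 : h⁻¹ * g * h = 1 := hfix _ (L.mul_mem (L.mul_mem (L.inv_mem hh) hgL) hh)
      (by rw [mul_smul, mul_smul, ha', hgi, ← ha', inv_smul_smul])
      (by rw [mul_smul, mul_smul, hb', hgi, ← hb', inv_smul_smul])
      (by rw [mul_smul, mul_smul, hc', hgi, ← hc', inv_smul_smul])
    have hg1 : g = 1 := by simpa [mul_assoc] using congrArg (fun z => h * z * h⁻¹) h1
    subst hg1
    exact Subtype.ext (map_one φ)
  -- the order of Q
  haveI : Fact (Nat.Prime 2) := ⟨Nat.prime_two⟩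
  have hQp : IsPGroup 2 Q := fun x => ⟨1, Subtype.ext (by
    rw [pow_one, pow_two]; exact hQ x x.2)⟩
  obtain ⟨f, hf⟩ := hQp.exists_card_eq
  have h3Q := two_lt_card_Q hS h2
  have hf2 : 2 ≤ f := by
    by_contra h
    have : 2 ^ f ≤ 2 ^ 1 := Nat.pow_le_pow_right (by norm_num) (by omega)
    omega
  have hcardΩ : Fintype.card Ω = 2 ^ f + 1 := by
    rw [← Nat.card_eq_fintype_card, card_points hS, hf]
  obtain ⟨F, iF, iFt, hF, ⟨e⟩⟩ := Cfsg.Agent.S0727.result (by omega) hcardΩ φ.range h3 hsharp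
  haveI : CharP F 2 := by
    obtain ⟨p, hp⟩ := CharP.exists F
    haveI := hp
    obtain ⟨k, hpp, hk⟩ := FiniteField.card F p
    rw [hF] at hk
    have h2' : (2 : ℕ) ∣ p ^ (k : ℕ) := hk ▸ dvd_pow_self 2 (by omega)
    rw [(Nat.prime_dvd_prime_iff_eq Nat.prime_two hpp).mp (Nat.prime_two.dvd_of_dvd_pow h2')]
    exact hp
  haveI : Finite (Matrix.ProjGenLinGroup (Fin 2) F) :=
    Finite.of_surjective _ Matrix.ProjGenLinGroup.mk_surjective
  have hbij : Function.Bijective (Matrix.SpecialLinearGroup.toPGL (n := Fin 2) (R := F)) := by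
    rw [Nat.bijective_iff_injective_and_card]
    refine ⟨(MonoidHom.ker_eq_bot_iff _).mp ?_, (Cfsg.Agent.S0265.result 2).symm⟩
    rw [Matrix.SpecialLinearGroup.toPGL_ker, CfsgLib.PrimeGraphExt.center_eq_bot]
  exact ⟨F, iF, iFt, ⟨f, hf2, hF⟩, ⟨(MonoidHom.ofInjective hinj).trans (e.trans
    ((MulEquiv.ofBijective _ hbij).symm.trans CfsgLib.PrimeGraphExt.pslEquiv.symm))⟩⟩

end CfsgLib.Bender.RecogLinear
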